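import Cfsg.Agent.Lib.InvClasses.Cert
import Cfsg.Agent.Lib.Chevalley.Twist.Setup
import Cfsg.Agent.Lib.Chevalley.Twist.Torus1

/-!
Orbit root elements of a graph-field twist in characteristic two, and moving them past products.
-/

set_option autoImplicit false

namespace CfsgLib.InvClasses.Twisted

open CfsgLib.Chevalley CfsgLib.Chevalley.Tbl

/-- A twist of order two acting on root elements by a permutation and an automorphism of the field. -/
structure Tw (T : Tbl) (D : ℕ → ℕ → List (ℕ × ℕ × ℕ)) (rho : ℕ → ℕ) (perm : ℕ → ℕ) (F : Type*)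
    [Field F] where
  valid : T.Valid
  comm : T.chkComm = true
  odd : Odd2 T D
  S : Tbl.Twist T F
  σ : F ≃+* F
  σσ : ∀ t, σ (σ t) = t
  rho_lt : ∀ r < T.n, rho r < T.n
  sgx : ∀ r < T.n, ∀ t : F, S.sg (T.xU F r t) = T.xU F (rho r) (σ t)
  tor : ∀ f : Fin T.rank → Fˣ,
    (∀ i j : Fin T.rank, perm i.val = j.val → σ (f i : F) = (f j : F)) → torusHom T F f ∈ S.fix
  omega : ∃ w : F, w + σ w = 1

/-- The orbit of a root. -/
def orb (rho : ℕ → ℕ) (a : ℕ) : List ℕ := bif Nat.beq (rho a) a then [a] else [a, rho a]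

/-- The orbit is a commuting one. -/
def okOrb (T : Tbl) (D : ℕ → ℕ → List (ℕ × ℕ × ℕ)) (rho : ℕ → ℕ) (a : ℕ) : Bool :=
  Nat.blt a T.n && Nat.beq (rho (rho a)) a && pairOK T D [] a (rho a)

/-- A list made of fixed roots and adjacent commuting orbits. -/
def fixL (T : Tbl) (D : ℕ → ℕ → List (ℕ × ℕ × ℕ)) (rho : ℕ → ℕ) : List ℕ → Bool
  | [] => true
  | [m] => Nat.beq (rho m) m && Nat.blt m T.n
  | m :: m' :: M => bif Nat.beq (rho m) m then Nat.blt m T.n && fixL T D rho (m' :: M) else
    Nat.beq (rho m) m' && okOrb T D rho m && fixL T D rho M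

variable {T : Tbl} {D : ℕ → ℕ → List (ℕ × ℕ × ℕ)} {rho perm : ℕ → ℕ} {F : Type*} [Field F]

theorem orb_nodup (a : ℕ) : (orb rho a).Nodup := by
  rw [orb]
  cases h : Nat.beq (rho a) a with
  | true => simp
  | false =>
    have : a ≠ rho a := fun e => by rw [← e, Nat.beq_refl] at h; cases h
    simp [this]

theorem mem_orb {a u : ℕ} : u ∈ orb rho a ↔ u = a ∨ u = rho a := by
  rw [orb]
  cases h : Nat.beq (rho a) a with
  | true => simp [Nat.eq_of_beq_eq_true h]
  | false => simp

variable (W : Tw T D rho perm F)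

/-- The root element of an orbit. -/
noncomputable def oe (a : ℕ) (c : F) : GL T.I F :=
  bif Nat.beq (rho a) a then T.xU F a c else T.xU F a c * T.xU F (rho a) (W.σ c)

/-- The parameter suits the orbit. -/
def Okc (a : ℕ) (c : F) : Prop := rho a = a → W.σ c = c

/-- The values on the roots of an orbit. -/
noncomputable def tv (a : ℕ) (c : F) (u : ℕ) : F := if u = a then c else W.σ c

theorem oe_cases (a : ℕ) (c : F) :
    (rho a = a ∧ oe W a c = T.xU F a c ∧ orb rho a = [a]) ∨
      (rho a ≠ a ∧ oe W a c = T.xU F a c * T.xU F (rho a) (W.σ c) ∧ orb rho a = [a, rho a]) := by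
  cases h : Nat.beq (rho a) a with
  | true => exact Or.inl ⟨Nat.eq_of_beq_eq_true h, by simp [oe, h], by simp [orb, h]⟩
  | false => exact Or.inr ⟨fun e => (by rw [e, Nat.beq_refl] at h; cases h), by simp [oe, h], by simp [orb, h]⟩

theorem okOrb_iff {a : ℕ} (h : okOrb T D rho a = true) :
    a < T.n ∧ rho (rho a) = a ∧ pairOK T D [] a (rho a) = true := by
  simp only [okOrb, Bool.and_eq_true] at h
  exact ⟨Nat.le_of_ble_eq_true h.1.1, Nat.eq_of_beq_eq_true h.1.2, h.2⟩

include W in
theorem orb_lt {a : ℕ} (h : okOrb T D rho a = true) : ∀ u ∈ orb rho a, u < T.n := fun u hu => by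
  obtain ⟨ha, -, -⟩ := okOrb_iff h
  rcases mem_orb.mp hu with rfl | rfl
  · exact ha
  · exact W.rho_lt a ha

theorem sg_mem_U {N : List ℕ} (hN : ∀ v ∈ N, rho v ∈ N) {z : GL T.I F} (hz : z ∈ U T F N) :
    W.S.sg z ∈ U T F N := by
  have hle := W.S.rootGen_le_group (fun r => r ∈ N)
  induction hz using Subgroup.closure_induction with
  | mem y hy =>
    obtain ⟨r, hr, hP, t, rfl⟩ := hy
    rw [W.sgx r hr]
    exact xU_mem_rootGen (P := (· ∈ N)) (W.rho_lt r hr) (hN r hP) _
  | one => rw [W.S.sg_one]; exact one_mem _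
  | mul a b ha hb iha ihb => rw [W.S.sg_mul (hle ha) (hle hb)]; exact mul_mem iha ihb
  | inv a ha iha => rw [W.S.sg_inv (hle ha)]; exact inv_mem iha

variable [CharP F 2]

include W in
theorem commute_exact {a b : ℕ} (ha : a < T.n) (hb : b < T.n) (h : pairOK T D [] a b = true) (t u : F) :
    Commute (T.xU F a t) (T.xU F b u) := by
  by_cases hab : b = a
  · subst hab
    rw [Commute, SemiconjBy, xU_add W.valid ha, xU_add W.valid ha, add_comm]
  simp only [pairOK, Bool.or_eq_true, Bool.and_eq_true, Bool.not_eq_true', List.all_eq_true] at h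
  obtain ⟨hne, hc⟩ := h.resolve_left fun e => hab (Nat.eq_of_beq_eq_true e)
  have hne' : b ≠ T.neg a := fun e => by rw [e, Nat.beq_refl] at hne; cases hne
  have hnil : D a b = [] := List.eq_nil_iff_forall_not_mem.mpr fun c hc' => by
    simpa [mem] using hc c hc'
  have := comm2 W.valid W.comm W.odd (F := F) ha hb hab hne' t u
  rw [hnil, List.map_nil, List.prod_nil, mul_one] at this
  exact this.symm

omit [CharP F 2] in
theorem oe_mem_group {a : ℕ} (h : okOrb T D rho a = true) (c : F) : oe W a c ∈ T.datum.group F := by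
  obtain ⟨ha, -, -⟩ := okOrb_iff h
  rcases oe_cases W a c with ⟨-, e, -⟩ | ⟨-, e, -⟩ <;> rw [e]
  · exact xU_mem_group W.valid ha c
  · exact mul_mem (xU_mem_group W.valid ha c) (xU_mem_group W.valid (W.rho_lt a ha) _)

theorem oe_mem_fix {a : ℕ} (h : okOrb T D rho a = true) {c : F} (hc : Okc W a c) :
    oe W a c ∈ W.S.fix := by
  obtain ⟨ha, hh, hp⟩ := okOrb_iff h
  refine ⟨oe_mem_group W h c, ?_⟩
  rcases oe_cases W a c with ⟨e0, e, -⟩ | ⟨-, e, -⟩ <;> rw [e]
  · rw [W.sgx a ha, e0, hc e0]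
  · rw [W.S.sg_mul (xU_mem_group W.valid ha c) (xU_mem_group W.valid (W.rho_lt a ha) _), W.sgx a ha,
      W.sgx (rho a) (W.rho_lt a ha), W.σσ, hh]
    exact ((commute_exact W ha (W.rho_lt a ha) hp c (W.σ c)).eq).symm

theorem oe_add {a : ℕ} (h : okOrb T D rho a = true) (c d : F) :
    oe W a c * oe W a d = oe W a (c + d) := by
  obtain ⟨ha, -, hp⟩ := okOrb_iff h
  have hb := W.rho_lt a ha
  rcases oe_cases W a c with ⟨e0, e, -⟩ | ⟨e0, e, -⟩
  · rcases oe_cases W a d with ⟨-, e', -⟩ | ⟨e1, -, -⟩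
    · rcases oe_cases W a (c + d) with ⟨-, e'', -⟩ | ⟨e1, -, -⟩
      · rw [e, e', e'', xU_add W.valid ha]
      · exact absurd e0 e1
    · exact absurd e0 e1
  · rcases oe_cases W a d with ⟨e1, -, -⟩ | ⟨-, e', -⟩
    · exact absurd e1 e0
    rcases oe_cases W a (c + d) with ⟨e1, -, -⟩ | ⟨-, e'', -⟩
    · exact absurd e1 e0
    rw [e, e', e'', map_add, ← xU_add W.valid ha, ← xU_add W.valid hb, mul_assoc, ← mul_assoc (T.xU F (rho a) (W.σ c)),
      ((commute_exact W ha hb hp d (W.σ c)).eq).symm]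
    simp only [mul_assoc]

omit [CharP F 2] in
theorem oe_zero {a : ℕ} (h : okOrb T D rho a = true) : oe W a (0 : F) = 1 := by
  obtain ⟨ha, -, -⟩ := okOrb_iff h
  rcases oe_cases W a (0 : F) with ⟨-, e, -⟩ | ⟨-, e, -⟩ <;>
    simp [e, xU_zero W.valid ha, xU_zero W.valid (W.rho_lt a ha)]

theorem oe_sq {a : ℕ} (h : okOrb T D rho a = true) (c : F) : oe W a c * oe W a c = 1 := by
  rw [oe_add W h, CharTwo.add_self_eq_zero, oe_zero W h]

theorem fixL_mem : ∀ M : List ℕ, fixL T D rho M = true →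
    eL T F M ∈ W.S.fix ∧ ∀ m ∈ M, m < T.n
  | [], _ => ⟨by rw [eL_nil]; exact one_mem _, by simp⟩
  | [m], h => by
    simp only [fixL, Bool.and_eq_true] at h
    have hm : m < T.n := Nat.le_of_ble_eq_true h.2
    refine ⟨?_, fun v hv => List.mem_singleton.mp hv ▸ hm⟩
    rw [eL_cons, eL_nil, mul_one]
    exact ⟨xU_mem_group W.valid hm 1, by rw [W.sgx m hm, map_one, Nat.eq_of_beq_eq_true h.1]⟩
  | m :: m' :: M, h => by
    cases hb : Nat.beq (rho m) m with
    | true =>
      simp only [fixL, hb, cond_true, Bool.and_eq_true] at h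
      have hm : m < T.n := Nat.le_of_ble_eq_true h.1
      obtain ⟨h1, h2⟩ := fixL_mem (m' :: M) h.2
      refine ⟨?_, fun v hv => (List.mem_cons.mp hv).elim (fun e => e ▸ hm) (h2 v)⟩
      rw [eL_cons]
      refine mul_mem ⟨xU_mem_group W.valid hm 1, ?_⟩ h1
      rw [W.sgx m hm, map_one, Nat.eq_of_beq_eq_true hb]
    | false =>
      simp only [fixL, hb, cond_false, Bool.and_eq_true] at h
      obtain rfl := Nat.eq_of_beq_eq_true h.1.1
      obtain ⟨h1, h2⟩ := fixL_mem M h.2
      obtain ⟨hm, -, -⟩ := okOrb_iff h.1.2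
      refine ⟨?_, fun v hv => ?_⟩
      · rw [eL_cons, eL_cons, ← mul_assoc]
        refine mul_mem ?_ h1
        have := oe_mem_fix W h.1.2 (c := 1) (fun _ => map_one _)
        rcases oe_cases W m (1 : F) with ⟨e, -, -⟩ | ⟨-, e, -⟩
        · rw [e, Nat.beq_refl] at hb; cases hb
        · rwa [e, map_one] at this
      · rcases List.mem_cons.mp hv with rfl | hv
        · exact hm
        rcases List.mem_cons.mp hv with rfl | hv
        · exact W.rho_lt m hm
        · exact h2 v hv

/-- The product modulo `N` of root elements of a list. -/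
noncomputable def Kp (N K : List ℕ) (φ : ℕ → F) : Qt T F N :=
  (K.map fun u => q N (T.xU F u (φ u))).prod

omit [CharP F 2] in
theorem Kp_congr {N K : List ℕ} {φ ψ : ℕ → F} (h : ∀ u ∈ K, φ u = ψ u) : Kp (T := T) N K φ = Kp N K ψ :=
  congrArg List.prod (List.map_congr_left fun u hu => by rw [h u hu])

omit [CharP F 2] in
include W in
theorem Kp_zero {N K : List ℕ} (hK : ∀ u ∈ K, u < T.n) :
    Kp N K (fun _ => (0 : F)) = (1 : Qt T F N) :=
  List.prod_eq_one fun y hy => by
    obtain ⟨u, hu, rfl⟩ := List.mem_map.mp hy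
    rw [xU_zero W.valid (hK u hu), q_one]

omit [CharP F 2] in
theorem Kp_comm {N K : List ℕ} {y : Qt T F N} (φ : ℕ → F)
    (h : ∀ u ∈ K, ∀ t : F, Commute y (q N (T.xU F u t))) : Commute y (Kp N K φ) :=
  commute_prod fun x hx => by obtain ⟨u, hu, rfl⟩ := List.mem_map.mp hx; exact h u hu _

include W in
theorem q_pair {N : List ℕ} {a b : ℕ} (ha : a < T.n) (hb : b < T.n) (h : pairOK T D N a b = true)
    (na : ∀ t : F, T.xU F a t ∈ Subgroup.normalizer (U T F N : Set (GL T.I F)))
    (nb : ∀ t : F, T.xU F b t ∈ Subgroup.normalizer (U T F N : Set (GL T.I F))) (t u : F) :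
    Commute (q N (T.xU F a t)) (q N (T.xU F b u)) :=
  q_comm W.valid W.comm W.odd ha hb h na nb t u

include W in
theorem Kp_add {N : List ℕ} : ∀ {K : List ℕ}, (∀ u ∈ K, u < T.n) →
    (∀ u ∈ K, ∀ t : F, T.xU F u t ∈ Subgroup.normalizer (U T F N : Set (GL T.I F))) →
    (∀ u ∈ K, ∀ v ∈ K, pairOK T D N u v = true) → ∀ φ ψ : ℕ → F,
    Kp N K φ * Kp N K ψ = Kp (T := T) N K (fun u => φ u + ψ u) := by
  intro K
  induction K with
  | nil => intros; simp [Kp]
  | cons u K ih =>
    intro hlt nz hc φ ψ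
    have hu := hlt u List.mem_cons_self
    have nu := nz u List.mem_cons_self
    have cm : Commute (Kp N K φ) (q N (T.xU F u (ψ u))) := (Kp_comm φ fun v hv t =>
      q_pair W hu (hlt v (List.mem_cons_of_mem _ hv))
        (hc u List.mem_cons_self v (List.mem_cons_of_mem _ hv)) nu (nz v (List.mem_cons_of_mem _ hv))
        _ t).symm
    have := ih (fun v hv => hlt v (List.mem_cons_of_mem _ hv)) (fun v hv => nz v (List.mem_cons_of_mem _ hv))
      (fun v hv w hw => hc v (List.mem_cons_of_mem _ hv) w (List.mem_cons_of_mem _ hw)) φ ψ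
    simp only [Kp, List.map_cons, List.prod_cons] at this cm ⊢
    rw [cm.mul_mul_mul_comm, ← q_mul (nu _) (nu _), xU_add W.valid hu, this]

include W in
theorem Kp_single {N : List ℕ} : ∀ {K : List ℕ}, K.Nodup → (∀ u ∈ K, u < T.n) → ∀ {v : ℕ}, v ∈ K →
    ∀ t : F, Kp N K (fun u => if u = v then t else 0) = q N (T.xU F v t) := by
  intro K
  induction K with
  | nil => intro _ _ v hv; simp at hv
  | cons u K ih =>
    intro hnd hlt v hv t
    obtain ⟨hu, hnd⟩ := List.nodup_cons.mp hnd
    have hlt' : ∀ w ∈ K, w < T.n := fun w hw => hlt w (List.mem_cons_of_mem _ hw)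
    show q N (T.xU F u (if u = v then t else 0)) * Kp N K _ = _
    by_cases e : u = v
    · subst e
      rw [if_pos rfl, Kp_congr (ψ := fun _ => (0 : F)) (fun w hw => if_neg fun e : w = u => hu (by rwa [← e])),
        Kp_zero W hlt', mul_one]
    · rw [if_neg e, xU_zero W.valid (hlt u List.mem_cons_self), q_one, one_mul,
        ih hnd hlt' ((List.mem_cons.mp hv).resolve_left (Ne.symm e)) t]

omit [CharP F 2] in
theorem q_oe {N : List ℕ} {a : ℕ} (c : F)
    (nz : ∀ u ∈ orb rho a, ∀ t : F, T.xU F u t ∈ Subgroup.normalizer (U T F N : Set (GL T.I F))) :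
    q N (oe W a c) = Kp N (orb rho a) (tv W a c) := by
  rcases oe_cases W a c with ⟨-, e, e'⟩ | ⟨hne, e, e'⟩
  · simp [Kp, e, e', tv]
  · rw [e, q_mul (nz a (mem_orb.mpr (Or.inl rfl)) _) (nz (rho a) (mem_orb.mpr (Or.inr rfl)) _)]
    simp [Kp, e', tv, hne]

/-- The roots met when `x_g` passes the list, outside `N`. -/
def hits (D : ℕ → ℕ → List (ℕ × ℕ × ℕ)) (N : List ℕ) (g : ℕ) (M : List ℕ) : List ℕ :=
  M.flatMap fun m => bif Nat.beq m g then [] else ((D g m).filter fun c => !(mem N c.1)).map fun c => c.1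

/-- Passing the list gives single linear terms at roots of `K`. -/
def moveOK (T : Tbl) (D : ℕ → ℕ → List (ℕ × ℕ × ℕ)) (N : List ℕ) (g : ℕ) (M K : List ℕ) : Bool :=
  M.all fun m => Nat.beq m g || (!(Nat.beq m (T.neg g)) &&
    match (D g m).filter (fun c => !(mem N c.1)) with
    | [] => true
    | [(u, i, _)] => Nat.beq i 1 && mem K u
    | _ => false)

/-- The coefficient collected at each root. -/
def cf (D : ℕ → ℕ → List (ℕ × ℕ × ℕ)) (N : List ℕ) (g : ℕ) (M : List ℕ) (t : F) (u : ℕ) : F :=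
  ((hits D N g M).count u : F) * t

include W in
theorem q_move {N K : List ℕ} {g : ℕ} (hg : g < T.n)
    (ng : ∀ t : F, T.xU F g t ∈ Subgroup.normalizer (U T F N : Set (GL T.I F)))
    (hK : ∀ u ∈ K, u < T.n) (hnd : K.Nodup)
    (nK : ∀ u ∈ K, ∀ t : F, T.xU F u t ∈ Subgroup.normalizer (U T F N : Set (GL T.I F)))
    (hKK : ∀ u ∈ K, ∀ v ∈ K, pairOK T D N u v = true) (t : F) :
    ∀ M : List ℕ, (∀ m ∈ M, m < T.n) →
      (∀ m ∈ M, ∀ s : F, T.xU F m s ∈ Subgroup.normalizer (U T F N : Set (GL T.I F))) →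
      (∀ u ∈ K, ∀ m ∈ M, pairOK T D N u m = true) → moveOK T D N g M K = true →
      q N (eL T F M) * q N (T.xU F g t) =
        q N (T.xU F g t) * q N (eL T F M) * Kp N K (cf D N g M t) := by
  intro M
  induction M with
  | nil =>
    intro _ _ _ _
    rw [Kp_congr (ψ := fun _ => (0 : F)) (fun u _ => by simp [cf, hits]), Kp_zero W hK, eL_nil, q_one,
      one_mul, mul_one, mul_one]
  | cons m M ih =>
    intro hlt nz hKM h
    have hm := hlt m List.mem_cons_self
    have nm := nz m List.mem_cons_self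
    have nzM : ∀ v ∈ M, ∀ s : F, T.xU F v s ∈ Subgroup.normalizer (U T F N : Set (GL T.I F)) :=
      fun v hv => nz v (List.mem_cons_of_mem _ hv)
    simp only [moveOK, List.all_cons, Bool.and_eq_true] at h
    obtain ⟨hm', hM⟩ := h
    have ih' := ih (fun v hv => hlt v (List.mem_cons_of_mem _ hv)) nzM
      (fun u hu v hv => hKM u hu v (List.mem_cons_of_mem _ hv)) hM
    rw [eL_cons, q_mul (nm 1) (eL_mem_nz fun v hv => nzM v hv 1), mul_assoc, ih', ← mul_assoc, ← mul_assoc]
    generalize hQ : q N (eL T F M) = E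
    have hhits : hits D N g (m :: M) = (bif Nat.beq m g then [] else
        ((D g m).filter fun c => !(mem N c.1)).map fun c => c.1) ++ hits D N g M := rfl
    by_cases hmg : m = g
    · subst hmg
      rw [(q_pair W hm hm (by simp [pairOK]) nm nm 1 t).eq,
        mul_assoc (q N (T.xU F m t)) _ E]
      congr 1
      exact Kp_congr fun u _ => by simp [cf, hhits]
    have hb : Nat.beq m g = false := by
      cases e : Nat.beq m g with
      | false => rfl
      | true => exact absurd (Nat.eq_of_beq_eq_true e) hmg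
    simp only [hb, Bool.false_or, Bool.and_eq_true, Bool.not_eq_true'] at hm'
    obtain ⟨hn, hm'⟩ := hm'
    have hn' : m ≠ T.neg g := fun e => by rw [e, Nat.beq_refl] at hn; cases hn
    rw [hb, cond_false] at hhits
    split at hm'
    · rename_i heq
      rw [heq, List.map_nil, List.nil_append] at hhits
      have hp : pairOK T D N g m = true := by
        simp only [pairOK, Bool.or_eq_true, Bool.and_eq_true, Bool.not_eq_true', List.all_eq_true]
        refine Or.inr ⟨hn, fun c hc => ?_⟩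
        by_contra hcN
        have : c ∈ (D g m).filter fun c => !(mem N c.1) := List.mem_filter.mpr ⟨hc, by simpa using hcN⟩
        rw [heq] at this
        exact absurd this List.not_mem_nil
      rw [(q_pair W hg hm hp ng nm t 1).eq.symm, mul_assoc (q N (T.xU F g t)) _ E]
      congr 1
      exact Kp_congr fun u _ => by simp [cf, hhits]
    · rename_i v i j heq
      simp only [Bool.and_eq_true] at hm'
      obtain rfl := Nat.eq_of_beq_eq_true hm'.1
      have hvK := mem_iff.mp hm'.2
      rw [q_swap W.valid W.comm W.odd hg hm hmg hn' heq ng nm (nK v hvK) t 1, pow_one, one_pow, mul_one]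
      have cE : Commute E (q N (T.xU F v t)) := by
        rw [← hQ, q_eL fun w hw => nzM w hw 1]
        exact (commute_prod fun y hy => by
          obtain ⟨w, hw, rfl⟩ := List.mem_map.mp hy
          exact q_pair W (hK v hvK) (hlt w (List.mem_cons_of_mem _ hw))
            (hKM v hvK w (List.mem_cons_of_mem _ hw)) (nK v hvK) (nzM w hw) t 1).symm
      rw [mul_assoc (q N (T.xU F g t) * q N (T.xU F m 1)), ← cE.eq]
      simp only [mul_assoc]
      congr 3
      rw [← Kp_single W hnd hK hvK t, Kp_add W hK nK hKK]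
      refine Kp_congr fun u _ => ?_
      rw [heq] at hhits
      simp only [cf, hhits, List.map_cons, List.map_nil, List.singleton_append, List.count_cons]
      by_cases e : u = v
      · subst e; simp [add_mul, add_comm]
      · simp [e, Ne.symm e]
    · cases hm'

end CfsgLib.InvClasses.Twisted
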