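import Cfsg.Agent.Lib.InvClasses.Twisted.Moves

/-!
A checker for reduction certificates of involutions in fixed points of a twist.
-/

set_option autoImplicit false

namespace CfsgLib.InvClasses.Twisted

open CfsgLib.Chevalley CfsgLib.Chevalley.Tbl

/-- The reduction applied at a state; the last numbers are the indices of the child states. -/
inductive Rule
  | leaf (path : List Move)
  | weyl (gs : List ℕ) (c : ℕ)
  | split (a : ℕ) (v w : List ℤ) (c₀ c₁ : ℕ)
  | kill (a r : ℕ) (c : ℕ)
  | sq (a b : ℕ) (N : List ℕ) (c : ℕ)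
  | sqkill (a b : ℕ) (N : List ℕ) (r : ℕ) (c : ℕ)

/-- A state with its rule. -/
structure Node where
  M : List ℕ
  L : List ℕ
  rule : Rule

variable (T : Tbl) (D : ℕ → ℕ → List (ℕ × ℕ × ℕ)) (rho perm : ℕ → ℕ)

/-- The parities allow removing any coordinate at `a`. -/
def killCase (M N : List ℕ) (a r : ℕ) : Bool :=
  let p (g u : ℕ) := bitAt D N g M u
  bif Nat.beq (rho r) r then Nat.beq (rho a) a && p r a
  else bif Nat.beq (rho a) a then p r a && p (rho r) a
  else (p r a && !(p (rho r) a) && !(p r (rho a)) && p (rho r) (rho a)) ||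
    (!(p r a) && p (rho r) a && p r (rho a) && !(p (rho r) (rho a)))

/-- The equation at `b` makes the coordinate vanish. -/
def sqCase (M N : List ℕ) (a b : ℕ) : Bool :=
  bif Nat.beq (rho a) a then bitAt D N a M b else (bitAt D N a M b).xor (bitAt D N (rho a) M b)

/-- The child at index `c` is the given state. -/
def childOK (get : ℕ → Node) (k c : ℕ) (M L : List ℕ) : Bool :=
  Nat.blt c k && decide ((get c).M = M) && decide ((get c).L = L)

/-- One step of the certificate. -/
def chkNode (reps : List (List ℕ)) (get : ℕ → Node) (k : ℕ) : Bool :=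
  let nd := get k
  let M := nd.M
  let L := nd.L
  posL T M && posL T L && fixL T D rho M &&
  match nd.rule with
  | .leaf ps => L.isEmpty && allComm T D M && runPath T D rho reps (norm M) ps
  | .weyl gs c => weylOK T rho gs && Nat.blt c k && decide ((get c).M = M.map (wact T gs)) &&
      L.all (fun v => mem (get c).L (wact T gs v))
  | .split a v w c₀ c₁ => coordOK T D rho L a && splitOK T rho perm M a v w &&
      childOK get k c₀ M (rest rho L a) && childOK get k c₁ (M ++ orb rho a) (rest rho L a)
  | .kill a r c => coordOK T D rho L a && killOK T D rho M L a r &&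
      killCase D rho M (rest rho L a) a r && childOK get k c M (rest rho L a)
  | .sq a b N c => coordOK T D rho L a && sqOK T D rho M L a b N && sqCase D rho M N a b &&
      childOK get k c M (rest rho L a)
  | .sqkill a b N r c => coordOK T D rho L a && sqOK T D rho M L a b N && killOK T D rho M L a r &&
      !(Nat.beq (rho a) a) && bitAt D N a M b && bitAt D N (rho a) M b && Nat.beq (rho r) r &&
      bitAt D (rest rho L a) r M a && bitAt D (rest rho L a) r M (rho a) &&
      childOK get k c M (rest rho L a)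

variable {T D rho perm} {F : Type*} [Field F] (W : Tw T D rho perm F) [CharP F 2]

theorem pt_leaf {reps : List (List ℕ)} {M : List ℕ} {ps : List Move} (hM : allComm T D M = true)
    (h : runPath T D rho reps (norm M) ps = true) : Pt W reps M [] := by
  intro z hz _ _
  have hle : U T F [] ≤ ⊥ := rootGen_le fun r _ h => absurd h List.not_mem_nil
  have hz1 : z = 1 := Subgroup.mem_bot.mp (hle hz)
  subst hz1
  obtain ⟨hs, he⟩ := eL_norm (F := F) W.valid W.comm W.odd hM M fun u hu => hu
  rw [mul_one, ← he]
  exact runPath_good W ps _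
    (fun u hu => (allComm_facts (F := F) W.valid W.comm W.odd hM).1 u (hs u hu)) h

theorem pt_weyl {reps : List (List ℕ)} {M L L' : List ℕ} {gs : List ℕ} (hw : weylOK T rho gs = true)
    (hMlt : ∀ v ∈ M, v < T.n) (hL : ∀ v ∈ L, wact T gs v ∈ L')
    (h : Pt W reps (M.map (wact T gs)) L') : Pt W reps M L := by
  obtain ⟨hgs, hf⟩ := weylOK_fix W hw
  intro z hz hzf hsq
  have hzm : wel T F gs * z * (wel T F gs)⁻¹ ∈ U T F L' := by
    clear hzf hsq
    induction hz using Subgroup.closure_induction with
    | mem y hy =>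
      obtain ⟨r, hr, hP, t, rfl⟩ := hy
      obtain ⟨e, hlt⟩ := wel_xU W gs hgs r hr t
      rw [e, mul_inv_cancel_right]
      exact xU_mem_rootGen (P := (· ∈ L')) hlt (hL r hP) t
    | one => simp
    | mul x y _ _ hx hy => simpa [mul_assoc] using mul_mem hx hy
    | inv x _ hx => simpa [mul_assoc] using inv_mem hx
  have hx : wel T F gs * (eL T F M * z) =
      eL T F (M.map (wact T gs)) * (wel T F gs * z * (wel T F gs)⁻¹) * wel T F gs := by
    rw [← mul_assoc, wel_eL W hgs M hMlt]
    group
  exact good_conj W hf hx (h _ hzm (fix_conj W hf hx hzf) (sq_conj hx hsq))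

theorem sc_true (x : F) : sc true x = x := rfl

theorem sc_false (x : F) : sc false x = 0 := rfl

theorem exists_param {M N : List ℕ} {a r : ℕ} {c : F} (hc : Okc W a c)
    (h : killCase D rho M N a r = true) :
    ∃ t, Okc W r t ∧ ∀ u ∈ orb rho a, cfs D N (orb rho r) M (tv W r t) u = tv W a c u := by
  simp only [killCase] at h
  cases hr : Nat.beq (rho r) r with
  | true =>
    simp only [hr, cond_true, Bool.and_eq_true] at h
    have ea := Nat.eq_of_beq_eq_true h.1
    refine ⟨c, fun _ => hc ea, fun u hu => ?_⟩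
    obtain rfl : u = a := (mem_orb.mp hu).elim id (fun e => e.trans ea)
    rcases cfs_orb W N M r c u with ⟨-, e⟩ | ⟨e, -⟩
    · rw [e, h.2, sc_true, tv, if_pos rfl]
    · exact absurd (Nat.eq_of_beq_eq_true hr) e
  | false =>
    have hne : rho r ≠ r := fun e => by rw [e, Nat.beq_refl] at hr; cases hr
    simp only [hr, cond_false] at h
    have key : ∀ (t : F) (u : ℕ), cfs D N (orb rho r) M (tv W r t) u =
        sc (bitAt D N r M u) t + sc (bitAt D N (rho r) M u) (W.σ t) := fun t u => by
      rcases cfs_orb W N M r t u with ⟨e, -⟩ | ⟨-, e⟩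
      · exact absurd e hne
      · exact e
    cases ha : Nat.beq (rho a) a with
    | true =>
      simp only [ha, cond_true, Bool.and_eq_true] at h
      have ea := Nat.eq_of_beq_eq_true ha
      obtain ⟨om, hom⟩ := W.omega
      refine ⟨c * om, fun e => absurd e hne, fun u hu => ?_⟩
      obtain rfl : u = a := (mem_orb.mp hu).elim id (fun e => e.trans ea)
      rw [key, h.1, h.2, sc_true, sc_true, tv, if_pos rfl, map_mul, hc ea, ← mul_add, hom, mul_one]
    | false =>
      have hna : rho a ≠ a := fun e => by rw [e, Nat.beq_refl] at ha; cases ha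
      simp only [ha, cond_false, Bool.or_eq_true, Bool.and_eq_true, Bool.not_eq_true'] at h
      rcases h with ⟨⟨⟨h1, h2⟩, h3⟩, h4⟩ | ⟨⟨⟨h1, h2⟩, h3⟩, h4⟩
      · refine ⟨c, fun e => absurd e hne, fun u hu => ?_⟩
        rcases mem_orb.mp hu with rfl | rfl
        · rw [key, h1, h2, sc_true, sc_false, add_zero, tv, if_pos rfl]
        · rw [key, h3, h4, sc_true, sc_false, zero_add, tv, if_neg hna]
      · refine ⟨W.σ c, fun e => absurd e hne, fun u hu => ?_⟩
        rcases mem_orb.mp hu with rfl | rfl
        · rw [key, h1, h2, sc_true, sc_false, zero_add, W.σσ, tv, if_pos rfl]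
        · rw [key, h3, h4, sc_true, sc_false, add_zero, tv, if_neg hna]

theorem pt_node [Finite F] {reps : List (List ℕ)} {get : ℕ → Node} {k : ℕ}
    (h : chkNode T D rho perm reps get k = true)
    (ih : ∀ c < k, Pt W reps (get c).M (get c).L) : Pt W reps (get k).M (get k).L := by
  have hchild : ∀ {c : ℕ} {M L : List ℕ}, childOK get k c M L = true → Pt W reps M L := by
    intro c M L hc
    simp only [childOK, Bool.and_eq_true, decide_eq_true_eq] at hc
    obtain ⟨⟨hck, rfl⟩, rfl⟩ := hc
    exact ih c (Nat.le_of_ble_eq_true hck)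
  simp only [chkNode, Bool.and_eq_true] at h
  obtain ⟨⟨⟨hMp, hLp⟩, hM⟩, hr⟩ := h
  generalize (get k).M = M at *
  generalize (get k).L = L at *
  generalize (get k).rule = rule at hr
  cases rule with
  | leaf ps =>
    simp only [Bool.and_eq_true] at hr
    rw [List.isEmpty_iff.mp hr.1.1]
    exact pt_leaf W hr.1.2 hr.2
  | weyl gs c =>
    simp only [Bool.and_eq_true, decide_eq_true_eq, List.all_eq_true] at hr
    obtain ⟨⟨⟨hw, hc⟩, hcM⟩, hcL⟩ := hr
    exact pt_weyl W hw (fun v hv => (posL_iff hMp v hv).2) (fun v hv => mem_iff.mp (hcL v hv))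
      (hcM ▸ ih c (Nat.le_of_ble_eq_true hc))
  | split a v w c₀ c₁ =>
    simp only [Bool.and_eq_true] at hr
    exact pt_split W hM hr.1.1.1 hr.1.1.2 (hchild hr.1.2) (hchild hr.2)
  | kill a r c =>
    simp only [Bool.and_eq_true] at hr
    obtain ⟨⟨⟨hcd, hk⟩, hkc⟩, hc⟩ := hr
    refine pt_coord W hM hcd fun e he z' hz' hz'f hsq => ?_
    obtain ⟨t, ht, heq⟩ := exists_param W he hkc
    exact kill_good W hM hcd hk (hchild hc) he ht heq hz' hz'f hsq
  | sq a b N c =>
    simp only [Bool.and_eq_true] at hr
    obtain ⟨⟨⟨hcd, hs⟩, hsc⟩, hc⟩ := hr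
    refine pt_coord W hM hcd fun e he z' hz' hz'f hsq => ?_
    have h0 := sq_zero W hM hcd hs hz' hsq
    have hok : okOrb T D rho a = true := by
      simp only [coordOK, Bool.and_eq_true] at hcd; exact hcd.1.1.1.1.1.1.1.1.1
    have he0 : e = 0 := by
      simp only [sqCase] at hsc
      rcases cfs_orb W N M a e b with ⟨ea, e1⟩ | ⟨ea, e1⟩ <;> rw [e1] at h0
      · rw [ea, Nat.beq_refl, cond_true] at hsc
        rwa [hsc] at h0
      · rw [show Nat.beq (rho a) a = false from
          Bool.eq_false_iff.mpr fun h => ea (Nat.eq_of_beq_eq_true h), cond_false] at hsc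
        revert hsc h0
        cases bitAt D N a M b <;> cases bitAt D N (rho a) M b <;>
          simp [sc_true, sc_false]
    subst he0
    rw [oe_zero W hok, one_mul] at hsq ⊢
    exact hchild hc z' hz' (mul_mem (fixL_mem W M hM).1 hz'f) hsq
  | sqkill a b N r c =>
    simp only [Bool.and_eq_true, Bool.not_eq_true'] at hr
    obtain ⟨⟨⟨⟨⟨⟨⟨⟨⟨hcd, hs⟩, hk⟩, hna⟩, hb1⟩, hb2⟩, hrr⟩, hk1⟩, hk2⟩, hc⟩ := hr
    refine pt_coord W hM hcd fun e he z' hz' hz'f hsq => ?_
    have h0 := sq_zero W hM hcd hs hz' hsq
    have ha : rho a ≠ a := fun e => by rw [e, Nat.beq_refl] at hna; cases hna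
    have hr' := Nat.eq_of_beq_eq_true hrr
    have hσ : W.σ e = e := by
      rcases cfs_orb W N M a e b with ⟨ea, -⟩ | ⟨-, e1⟩
      · exact absurd ea ha
      rw [e1, hb1, hb2, sc_true, sc_true] at h0
      exact (CharTwo.add_eq_zero.mp h0).symm
    refine kill_good W hM hcd hk (hchild hc) he (t := e) (fun _ => hσ) (fun u hu => ?_) hz' hz'f hsq
    rcases cfs_orb W (rest rho L a) M r e u with ⟨-, e1⟩ | ⟨e1, -⟩
    · rcases mem_orb.mp hu with rfl | rfl
      · rw [e1, hk1, sc_true, tv, if_pos rfl]
      · rw [e1, hk2, sc_true, tv, if_neg ha, hσ]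
    · exact absurd hr' e1

theorem pt_all [Finite F] {reps : List (List ℕ)} {get : ℕ → Node} {N : ℕ}
    (h : ∀ k < N, chkNode T D rho perm reps get k = true) :
    ∀ k, k < N → Pt W reps (get k).M (get k).L := by
  intro k
  induction k using Nat.strong_induction_on with
  | _ k ih => exact fun hk => pt_node W (h k hk) fun c hc => ih c hc (lt_trans hc hk)

end CfsgLib.InvClasses.Twisted
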