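import Cfsg.Agent.Lib.InvClasses.Twisted.Rules

/-!
Conjugations inside the fixed points between products of commuting root elements.
-/

set_option autoImplicit false

namespace CfsgLib.InvClasses.Twisted

open CfsgLib.Chevalley CfsgLib.Chevalley.Tbl

/-- A move between products of commuting root elements. -/
inductive Move
  | w (gs : List ℕ)
  | x (rs : List ℕ) (k : ℕ)
  | k (r : ℕ) (us : List ℕ)

/-- The parity of the coefficient collected at `u`. -/
def bitAt (D : ℕ → ℕ → List (ℕ × ℕ × ℕ)) (N : List ℕ) (g : ℕ) (M : List ℕ) (u : ℕ) : Bool :=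
  Nat.beq ((hits D N g M).count u % 2) 1

/-- The image of a root under a product of simple reflections. -/
def wact (T : Tbl) (gs : List ℕ) (s : ℕ) : ℕ := gs.foldr (fun i v => T.refl i v) s

/-- The product of simple reflections commutes with the twist. -/
def weylOK (T : Tbl) (rho : ℕ → ℕ) (gs : List ℕ) : Bool :=
  gs.all (fun i => Nat.blt i T.rank) &&
  match gs with
  | [i] => Nat.beq (rho (T.simple i)) (T.simple i) &&
      Nat.beq (rho (T.neg (T.simple i))) (T.neg (T.simple i))
  | [i, j] => Nat.beq (rho (T.simple i)) (T.simple j) && Nat.beq (rho (T.simple j)) (T.simple i) &&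
      Nat.beq (rho (T.neg (T.simple i))) (T.neg (T.simple j)) &&
      Nat.beq (rho (T.neg (T.simple j))) (T.neg (T.simple i)) &&
      Nat.beq (T.refl i (T.simple j)) (T.simple j) &&
      Nat.beq (T.refl i (T.neg (T.simple j))) (T.neg (T.simple j))
  | _ => false

/-- One rewriting step towards a sorted list. -/
def step1 (T : Tbl) (D : ℕ → ℕ → List (ℕ × ℕ × ℕ)) : List ℕ → List ℕ
  | a :: b :: L => bif Nat.beq a b then L else
      bif Nat.blt b a && !(Nat.beq a (T.neg b)) then b :: a :: ((D b a).map (fun c => c.1) ++ L)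
      else a :: step1 T D (b :: L)
  | L => L

/-- Pass the roots one after another, collecting in between. -/
def xrun (T : Tbl) (D : ℕ → ℕ → List (ℕ × ℕ × ℕ)) (k : ℕ) : List ℕ → List ℕ → Option (List ℕ)
  | [], L => some L
  | g :: R, L => bif L.all (fun m => !(Nat.beq m (T.neg g))) then
      xrun T D k R ((step1 T D)^[k] (moveX D g L)) else none

/-- Run a path of moves from a list to a target. -/
def runPath (T : Tbl) (D : ℕ → ℕ → List (ℕ × ℕ × ℕ)) (rho : ℕ → ℕ) (reps : List (List ℕ)) :
    List ℕ → List Move → Bool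
  | L, [] => L.isEmpty || reps.any fun R => decide (R = L)
  | L, .w gs :: ps => weylOK T rho gs && allComm T D (L.map (wact T gs)) &&
      runPath T D rho reps (norm (L.map (wact T gs))) ps
  | L, .x rs k :: ps => fixL T D rho (rs.flatMap (orb rho)) &&
      match xrun T D k (rs.flatMap (orb rho)) L with
      | some L' => allComm T D L' && runPath T D rho reps (norm L') ps
      | none => false
  | L, .k r us :: ps => okOrb T D rho r && !(Nat.beq (rho r) r) && decide us.Nodup &&
      passOK T D [] (orb rho r) L us && allComm T D (L ++ us) &&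
      us.all (fun u => bitAt D [] r L u == bitAt D [] (rho r) L u) &&
      runPath T D rho reps (norm (L ++ us.filter fun u => bitAt D [] r L u)) ps

variable {T : Tbl} {D : ℕ → ℕ → List (ℕ × ℕ × ℕ)} {rho perm : ℕ → ℕ} {F : Type*} [Field F]
variable (W : Tw T D rho perm F) [CharP F 2]

/-- A scalar selected by a parity. -/
def sc (b : Bool) (x : F) : F := bif b then x else 0

theorem natCast_bit (k : ℕ) (x : F) : (k : F) * x = sc (Nat.beq (k % 2) 1) x := by
  conv_lhs => rw [show k = k % 2 + 2 * (k / 2) by omega]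
  push_cast
  rw [CharTwo.two_eq_zero (R := F), zero_mul, add_zero]
  rcases Nat.mod_two_eq_zero_or_one k with h | h <;> rw [h] <;>
    simp [sc, show Nat.beq 0 1 = false from rfl]

theorem cf_bit (N : List ℕ) (g : ℕ) (M : List ℕ) (t : F) (u : ℕ) :
    cf D N g M t u = sc (bitAt D N g M u) t := natCast_bit _ _

theorem cfs_orb (N M : List ℕ) (a : ℕ) (c : F) (u : ℕ) :
    (rho a = a ∧ cfs D N (orb rho a) M (tv W a c) u = sc (bitAt D N a M u) c) ∨
      (rho a ≠ a ∧ cfs D N (orb rho a) M (tv W a c) u =
        sc (bitAt D N a M u) c + sc (bitAt D N (rho a) M u) (W.σ c)) := by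
  rcases oe_cases W a c with ⟨e, -, eo⟩ | ⟨e, -, eo⟩
  · exact Or.inl ⟨e, by simp [cfs, eo, cf_bit, tv]⟩
  · exact Or.inr ⟨e, by simp [cfs, eo, cf_bit, tv, e]⟩

/-- The product of the simple Weyl elements. -/
noncomputable def wel (T : Tbl) (F : Type*) [Field F] (gs : List ℕ) : GL T.I F :=
  (gs.map fun i => T.nU F (T.simple i) 1).prod

include W in
theorem wel_xU : ∀ (gs : List ℕ), (∀ i ∈ gs, i < T.rank) → ∀ s < T.n, ∀ t : F,
    wel T F gs * T.xU F s t = T.xU F (wact T gs s) t * wel T F gs ∧ wact T gs s < T.n := by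
  intro gs
  induction gs with
  | nil => intro _ s hs t; exact ⟨by simp [wel, wact], hs⟩
  | cons i gs ih =>
    intro hgs s hs t
    have hi := hgs i List.mem_cons_self
    obtain ⟨e, hlt⟩ := ih (fun j hj => hgs j (List.mem_cons_of_mem _ hj)) s hs t
    have he : (T.eta i (wact T gs s) : F) = 1 := by
      rcases eta_sq W.valid hi hlt with h | h <;> rw [h] <;> simp [CharTwo.neg_eq]
    refine ⟨?_, refl_lt W.valid hi hlt⟩
    show (T.nU F (T.simple i) 1 * wel T F gs) * T.xU F s t = _ * (T.nU F (T.simple i) 1 * wel T F gs)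
    rw [mul_assoc, e, ← mul_assoc, nU_simple_xU W.valid hi hlt, he, one_mul, mul_assoc]
    rfl

include W in
theorem wel_eL {gs : List ℕ} (hgs : ∀ i ∈ gs, i < T.rank) : ∀ L : List ℕ, (∀ u ∈ L, u < T.n) →
    wel T F gs * eL T F L = eL T F (L.map (wact T gs)) * wel T F gs := by
  intro L
  induction L with
  | nil => intro _; simp [eL]
  | cons m L ih =>
    intro hL
    rw [List.map_cons, eL_cons, eL_cons, ← mul_assoc, (wel_xU W gs hgs m (hL m List.mem_cons_self) 1).1,
      mul_assoc, ih fun u hu => hL u (List.mem_cons_of_mem _ hu), mul_assoc]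

theorem nU_simple_eq {i : ℕ} :
    T.nU F (T.simple i) 1 =
      T.xU F (T.simple i) 1 * T.xU F (T.neg (T.simple i)) 1 * T.xU F (T.simple i) 1 := by
  simp [nU, CharTwo.neg_eq]

theorem sg_nU_simple {i j : ℕ} (hi : i < T.rank) (h1 : rho (T.simple i) = T.simple j)
    (h2 : rho (T.neg (T.simple i)) = T.neg (T.simple j)) :
    W.S.sg (T.nU F (T.simple i) 1) = T.nU F (T.simple j) 1 := by
  have hs := simple_lt W.valid hi
  have hn := neg_lt' hs
  have g1 := xU_mem_group (F := F) W.valid hs 1
  have g2 := xU_mem_group (F := F) W.valid hn 1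
  rw [nU_simple_eq, nU_simple_eq, W.S.sg_mul (mul_mem g1 g2) g1, W.S.sg_mul g1 g2, W.sgx _ hs, W.sgx _ hn,
    h1, h2, map_one]

theorem weylOK_fix {gs : List ℕ} (h : weylOK T rho gs = true) :
    (∀ i ∈ gs, i < T.rank) ∧ wel T F gs ∈ W.S.fix := by
  simp only [weylOK, Bool.and_eq_true, List.all_eq_true] at h
  obtain ⟨hlt, h⟩ := h
  have hlt' : ∀ i ∈ gs, i < T.rank := fun i hi => Nat.le_of_ble_eq_true (hlt i hi)
  refine ⟨hlt', ?_⟩
  have hG : ∀ i < T.rank, T.nU F (T.simple i) 1 ∈ T.datum.group F := fun i hi =>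
    nU_mem_group W.valid (simple_lt W.valid hi) 1
  split at h
  · rename_i i
    simp only [Bool.and_eq_true] at h
    have hi := hlt' i (by simp)
    have e : wel T F [i] = T.nU F (T.simple i) 1 := by simp [wel]
    rw [e]
    exact ⟨hG i hi, sg_nU_simple W hi (Nat.eq_of_beq_eq_true h.1) (Nat.eq_of_beq_eq_true h.2)⟩
  · rename_i i j
    simp only [Bool.and_eq_true] at h
    obtain ⟨⟨⟨⟨⟨h1, h2⟩, h3⟩, h4⟩, h5⟩, h6⟩ := h
    have hi := hlt' i (by simp)
    have hj := hlt' j (by simp)
    have e : wel T F [i, j] = T.nU F (T.simple i) 1 * T.nU F (T.simple j) 1 := by simp [wel]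
    have hc : ∀ s, s < T.n → T.refl i s = s →
        Commute (T.nU F (T.simple i) 1) (T.xU F s 1) := fun s hs hr => by
      have h := (wel_xU W [i] (fun v hv => List.mem_singleton.mp hv ▸ hi) s hs (1 : F)).1
      rw [show wact T [i] s = s from hr, show wel T F [i] = T.nU F (T.simple i) 1 by simp [wel]] at h
      exact h
    have hcj : Commute (T.nU F (T.simple i) 1) (T.nU F (T.simple j) 1) := by
      have hs := simple_lt W.valid hj
      have c1 := hc _ hs (Nat.eq_of_beq_eq_true h5)
      rw [nU_simple_eq (i := j)]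
      exact (c1.mul_right (hc _ (neg_lt' hs) (Nat.eq_of_beq_eq_true h6))).mul_right c1
    rw [e]
    refine ⟨mul_mem (hG i hi) (hG j hj), ?_⟩
    rw [W.S.sg_mul (hG i hi) (hG j hj), sg_nU_simple W hi (Nat.eq_of_beq_eq_true h1) (Nat.eq_of_beq_eq_true h3),
      sg_nU_simple W hj (Nat.eq_of_beq_eq_true h2) (Nat.eq_of_beq_eq_true h4), hcj.eq]
  · cases h

include W in
theorem step1_spec : ∀ L : List ℕ, (∀ u ∈ L, u < T.n) →
    eL T F (step1 T D L) = eL T F L ∧ ∀ u ∈ step1 T D L, u < T.n
  | [], h => ⟨rfl, h⟩
  | [a], h => ⟨rfl, h⟩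
  | a :: b :: L, h => by
    have ha := h a (by simp)
    have hb := h b (by simp)
    have hL : ∀ u ∈ L, u < T.n := fun u hu => h u (by simp [hu])
    cases he : Nat.beq a b with
    | true =>
      obtain rfl := Nat.eq_of_beq_eq_true he
      simp only [step1, he, cond_true]
      exact ⟨by rw [eL_cons, eL_cons, ← mul_assoc, xU_sq W.valid ha, one_mul], hL⟩
    | false =>
      cases hsw : Nat.blt b a && !(Nat.beq a (T.neg b)) with
      | true =>
        simp only [step1, he, hsw, cond_false, cond_true]
        simp only [Bool.and_eq_true, Bool.not_eq_true'] at hsw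
        have hne : a ≠ b := fun e => by rw [e, Nat.beq_refl] at he; cases he
        have hn : a ≠ T.neg b := fun e => by rw [e, Nat.beq_refl] at hsw; exact absurd hsw.2 (by simp)
        refine ⟨?_, fun u hu => ?_⟩
        · have := comm2 W.valid W.comm W.odd (F := F) hb ha hne hn 1 1
          rw [eL_cons a, eL_cons b L, ← mul_assoc, this, eL_cons, eL_cons, eL_append]
          simp [eL, List.map_map, Function.comp_def, mul_assoc]
        · rcases List.mem_cons.mp hu with rfl | hu
          · exact hb
          rcases List.mem_cons.mp hu with rfl | hu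
          · exact ha
          rcases List.mem_append.mp hu with hu | hu
          · obtain ⟨c, hc, rfl⟩ := List.mem_map.mp hu
            exact D_lt W.valid W.comm W.odd hb ha hne hn c hc
          · exact hL u hu
      | false =>
        simp only [step1, he, hsw, cond_false]
        obtain ⟨e, hlt⟩ := step1_spec (b :: L) fun u hu => h u (List.mem_cons_of_mem _ hu)
        exact ⟨by rw [eL_cons, e, ← eL_cons], fun u hu => (List.mem_cons.mp hu).elim (fun e => e ▸ ha) (hlt u)⟩

include W in
theorem steps_spec : ∀ (k : ℕ) (L : List ℕ), (∀ u ∈ L, u < T.n) →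
    eL T F ((step1 T D)^[k] L) = eL T F L ∧ ∀ u ∈ (step1 T D)^[k] L, u < T.n := by
  intro k
  induction k with
  | zero => intro L h; exact ⟨rfl, h⟩
  | succ k ih =>
    intro L h
    obtain ⟨e, hlt⟩ := step1_spec W L h
    rw [Function.iterate_succ_apply]
    exact ⟨(ih _ hlt).1.trans e, (ih _ hlt).2⟩

include W in
theorem xrun_spec (k : ℕ) : ∀ (R L L' : List ℕ), (∀ u ∈ R, u < T.n) → (∀ u ∈ L, u < T.n) →
    xrun T D k R L = some L' →
    eL T F L * eL T F R = eL T F R * eL T F L' ∧ ∀ u ∈ L', u < T.n := by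
  intro R
  induction R with
  | nil =>
    intro L L' _ hL h
    simp only [xrun, Option.some.injEq] at h
    subst h
    exact ⟨by rw [eL_nil, mul_one, one_mul], hL⟩
  | cons g R ih =>
    intro L L' hR hL h
    simp only [xrun] at h
    cases hall : L.all fun m => !(Nat.beq m (T.neg g)) with
    | false => simp [hall] at h
    | true =>
      rw [hall, cond_true] at h
      have hg := hR g List.mem_cons_self
      have hn : ∀ u ∈ L, u ≠ T.neg g := fun u hu e => by
        have := List.all_eq_true.mp hall u hu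
        rw [e, Nat.beq_refl] at this
        cases this
      have hmv := move_x (F := F) W.valid W.comm W.odd hg L fun u hu => ⟨hL u hu, hn u hu⟩
      have hlt : ∀ u ∈ moveX D g L, u < T.n := fun u hu => by
        obtain ⟨m, hm, hu⟩ := List.mem_flatMap.mp hu
        cases he : Nat.beq m g with
        | true => rw [he, cond_true, List.mem_singleton] at hu; exact hu ▸ hL m hm
        | false =>
          rw [he, cond_false, List.mem_cons] at hu
          rcases hu with rfl | hu
          · exact hL u hm
          obtain ⟨c, hc, rfl⟩ := List.mem_map.mp hu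
          exact D_lt W.valid W.comm W.odd hg (hL m hm)
            (fun e => by rw [e, Nat.beq_refl] at he; cases he) (hn m hm) c hc
      obtain ⟨e1, hlt1⟩ := steps_spec W k _ hlt
      obtain ⟨e2, hlt2⟩ := ih _ L' (fun u hu => hR u (List.mem_cons_of_mem _ hu)) hlt1 h
      refine ⟨?_, hlt2⟩
      rw [eL_cons, ← mul_assoc, hmv, ← e1, mul_assoc, e2, mul_assoc]

omit [CharP F 2] in
include W in
theorem Kp_sc {us : List ℕ} (f : ℕ → Bool) (hlt : ∀ u ∈ us, u < T.n)
    (nz : ∀ u ∈ us, T.xU F u 1 ∈ Subgroup.normalizer (U T F ([] : List ℕ) : Set (GL T.I F))) :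
    Kp [] us (fun u => sc (f u) (1 : F)) = q [] (eL T F (us.filter f)) := by
  rw [q_eL fun m hm => nz m (List.mem_of_mem_filter hm)]
  clear nz
  induction us with
  | nil => simp [Kp]
  | cons u us ih =>
    have ih' := ih fun v hv => hlt v (List.mem_cons_of_mem _ hv)
    simp only [Kp, List.map_cons, List.prod_cons] at ih' ⊢
    rw [ih']
    cases hf : f u with
    | true => simp [hf, sc]
    | false => simp [hf, sc, xU_zero W.valid (hlt u List.mem_cons_self), q_one]

theorem runPath_good {reps : List (List ℕ)} : ∀ (ps : List Move) (L : List ℕ),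
    (∀ u ∈ L, u < T.n) → runPath T D rho reps L ps = true → Good W reps (eL T F L) := by
  have hT := W.valid
  intro ps
  induction ps with
  | nil =>
    intro L _ h
    simp only [runPath, Bool.or_eq_true, List.any_eq_true, decide_eq_true_eq] at h
    rcases h with h | ⟨R, hR, rfl⟩
    · exact Or.inl (by rw [List.isEmpty_iff.mp h, eL_nil])
    · exact Or.inr ⟨_, hR, 1, one_mem _, by simp⟩
  | cons p ps ih =>
    intro L hL h
    have fin : ∀ S : List ℕ, allComm T D S = true → runPath T D rho reps (norm S) ps = true →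
        Good W reps (eL T F S) := fun S hS hrun => by
      obtain ⟨hs, he⟩ := eL_norm (F := F) hT W.comm W.odd hS S fun u hu => hu
      rw [← he]
      exact ih _ (fun u hu => (allComm_facts (F := F) hT W.comm W.odd hS).1 u (hs u hu)) hrun
    cases p with
    | w gs =>
      simp only [runPath, Bool.and_eq_true] at h
      obtain ⟨⟨hw, hc⟩, hrun⟩ := h
      obtain ⟨hgs, hf⟩ := weylOK_fix W hw
      exact good_conj W hf (wel_eL W hgs L hL) (fin _ hc hrun)
    | x rs k =>
      simp only [runPath, Bool.and_eq_true] at h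
      obtain ⟨hfx, h⟩ := h
      obtain ⟨hgf, hRlt⟩ := fixL_mem W _ hfx
      split at h
      · rename_i L' heq
        simp only [Bool.and_eq_true] at h
        obtain ⟨e, -⟩ := xrun_spec W k _ L L' hRlt hL heq
        refine good_conj W (inv_mem hgf) (x' := eL T F L') ?_ (fin _ h.1 h.2)
        rw [inv_mul_eq_iff_eq_mul, ← mul_assoc, ← e, mul_inv_cancel_right]
      · cases h
    | k r us =>
      simp only [runPath, Bool.and_eq_true, Bool.not_eq_true', decide_eq_true_eq, List.all_eq_true,
        beq_iff_eq] at h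
      obtain ⟨⟨⟨⟨⟨⟨hr, hne⟩, hnd⟩, hp⟩, hc⟩, hbit⟩, hrun⟩ := h
      have hne' : rho r ≠ r := fun e => by rw [e, Nat.beq_refl] at hne; cases hne
      obtain ⟨hcl, -⟩ := allComm_facts (F := F) hT W.comm W.odd hc
      have hlt : ∀ v ∈ orb rho r ++ (L ++ us), v < T.n := fun v hv =>
        (List.mem_append.mp hv).elim (orb_lt W hr v) (hcl v)
      obtain ⟨nz, -, -⟩ := passOK_facts W hlt hp
      obtain ⟨om, hom⟩ := W.omega
      have hpass := q_pass W hnd (tv W r om) (orb rho r) hlt hp
      have hval : ∀ u ∈ us, cfs D [] (orb rho r) L (tv W r om) u = sc (bitAt D [] r L u) (1 : F) :=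
        fun u hu => by
          rcases cfs_orb W ([] : List ℕ) L r om u with ⟨e, -⟩ | ⟨-, e⟩
          · exact absurd e hne'
          rw [e, ← hbit u hu]
          cases bitAt D [] r L u <;> simp [sc, hom]
      have nfil : eL T F (us.filter fun u => bitAt D [] r L u) ∈
          Subgroup.normalizer (U T F ([] : List ℕ) : Set (GL T.I F)) :=
        eL_mem_nz fun v hv => nz v (by simp [List.mem_of_mem_filter hv]) 1
      have nE : eL T F L ∈ Subgroup.normalizer (U T F ([] : List ℕ) : Set (GL T.I F)) :=
        eL_mem_nz fun v hv => nz v (by simp [hv]) 1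
      rw [Kp_congr hval, Kp_sc W _ (fun u hu => hlt u (by simp [hu])) (fun u hu => nz u (by simp [hu]) 1),
        ← q_oe W om fun u hu => nz u (by simp [hu])] at hpass
      obtain ⟨g, hg⟩ : ∃ g, g = oe W r om := ⟨_, rfl⟩
      have ng : g ∈ Subgroup.normalizer (U T F ([] : List ℕ) : Set (GL T.I F)) := by
        rw [hg]
        rcases oe_cases W r om with ⟨e, -, -⟩ | ⟨-, e, eo⟩
        · exact absurd e hne'
        rw [e]
        exact mul_mem (nz r (by simp [eo]) _) (nz (rho r) (by simp [eo]) _)
      rw [← hg, ← q_mul nE ng, ← q_mul ng nE, ← q_mul (mul_mem ng nE) nfil] at hpass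
      have hbot : U T F ([] : List ℕ) ≤ ⊥ := rootGen_le fun _ _ h => absurd h List.not_mem_nil
      have heq : eL T F L * g = g * eL T F L * eL T F (us.filter fun u => bitAt D [] r L u) := by
        have h1 : (eL T F L * g)⁻¹ * (g * eL T F L * eL T F (us.filter fun u => bitAt D [] r L u)) ∈
            U T F ([] : List ℕ) := by
          rw [← q_eq_one_iff (mul_mem (inv_mem (mul_mem nE ng)) (mul_mem (mul_mem ng nE) nfil)),
            q_mul (inv_mem (mul_mem nE ng)) (mul_mem (mul_mem ng nE) nfil), q_inv (mul_mem nE ng), hpass,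
            inv_mul_cancel]
        exact (inv_mul_eq_one.mp (Subgroup.mem_bot.mp (hbot h1)))
      have hgf : g ∈ W.S.fix := hg ▸ oe_mem_fix W hr (fun e => absurd e hne')
      refine good_conj W (inv_mem hgf)
        (x' := eL T F (L ++ us.filter fun u => bitAt D [] r L u)) ?_ ?_
      · rw [inv_mul_eq_iff_eq_mul, eL_append, ← mul_assoc, ← mul_assoc, ← heq, mul_inv_cancel_right]
      · have hsub : ∀ u ∈ L ++ us.filter (fun u => bitAt D [] r L u), u ∈ L ++ us := fun u hu =>
          (List.mem_append.mp hu).elim (fun h => List.mem_append_left _ h)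
            fun h => List.mem_append_right _ (List.mem_of_mem_filter h)
        obtain ⟨hs, he⟩ := eL_norm (F := F) hT W.comm W.odd hc _ hsub
        rw [← he]
        exact ih _ (fun u hu => hcl u (hs u hu)) hrun

end CfsgLib.InvClasses.Twisted
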