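import Cfsg.Agent.Lib.InvClasses.Twisted.Basic

/-!
Reduction rules for involutions in the fixed points of a twist.
-/

set_option autoImplicit false

namespace CfsgLib.InvClasses.Twisted

open CfsgLib.Chevalley CfsgLib.Chevalley.Tbl

variable {T : Tbl} {D : ℕ → ℕ → List (ℕ × ℕ × ℕ)} {rho perm : ℕ → ℕ} {F : Type*} [Field F]

/-- The list without an orbit. -/
def rest (rho : ℕ → ℕ) (L : List ℕ) (a : ℕ) : List ℕ := (L.erase a).erase (rho a)

/-- The roots are positive ones of the table. -/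
def posL (T : Tbl) (L : List ℕ) : Bool := L.all fun v => Nat.ble T.half v && Nat.blt v T.n

/-- An orbit splits off the subgroup of a list. -/
def coordOK (T : Tbl) (D : ℕ → ℕ → List (ℕ × ℕ × ℕ)) (rho : ℕ → ℕ) (L : List ℕ) (a : ℕ) : Bool :=
  let N := L.erase a
  let L' := rest rho L a
  okOrb T D rho a && mem L a && mem L (rho a) && posL T L && !(mem N a) && !(mem L' (rho a)) &&
    nrm T D [a] N && nrm T D (orb rho a) L' && nrm T D N N && L'.all fun v => mem L' (rho v)

theorem posL_iff {L : List ℕ} (h : posL T L = true) : ∀ v ∈ L, T.half ≤ v ∧ v < T.n := by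
  simp only [posL, List.all_eq_true, Bool.and_eq_true] at h
  exact fun v hv => ⟨Nat.le_of_ble_eq_true (h v hv).1, Nat.le_of_ble_eq_true (h v hv).2⟩

theorem not_mem_of {L : List ℕ} {v : ℕ} (h : mem L v = false) : v ∉ L := fun e => by
  rw [mem_iff.mpr e] at h; cases h

theorem mem_rest_or {L : List ℕ} {a v : ℕ} (h : v ∈ L) : v = a ∨ v = rho a ∨ v ∈ rest rho L a := by
  by_cases h1 : v = a
  · exact Or.inl h1
  by_cases h2 : v = rho a
  · exact Or.inr (Or.inl h2)
  exact Or.inr (Or.inr ((List.mem_erase_of_ne h2).mpr ((List.mem_erase_of_ne h1).mpr h)))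

variable (W : Tw T D rho perm F)

/-- Trivial or conjugate among the fixed points to one of the targets. -/
def Good (reps : List (List ℕ)) (x : GL T.I F) : Prop :=
  x = 1 ∨ ∃ R ∈ reps, ∃ h ∈ W.S.fix, h * x = eL T F R * h

theorem good_conj {reps : List (List ℕ)} {x x' g : GL T.I F} (hg : g ∈ W.S.fix)
    (h : g * x = x' * g) (hx : Good W reps x') : Good W reps x := by
  rcases hx with rfl | ⟨R, hR, k, hk, e⟩
  · exact Or.inl (mul_left_cancel (a := g) (by rw [h, one_mul, mul_one]))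
  · exact Or.inr ⟨R, hR, k * g, mul_mem hk hg, by rw [mul_assoc, h, ← mul_assoc, e, mul_assoc]⟩

theorem fix_conj {x x' g : GL T.I F} (hg : g ∈ W.S.fix) (h : g * x = x' * g) (hx : x ∈ W.S.fix) :
    x' ∈ W.S.fix := by
  have e : g * x * g⁻¹ = x' := by rw [h, mul_inv_cancel_right]
  exact e ▸ mul_mem (mul_mem hg hx) (inv_mem hg)

/-- Every fixed involution in `e(M) U(L)` is good. -/
def Pt (reps : List (List ℕ)) (M L : List ℕ) : Prop :=
  ∀ z ∈ U T F L, eL T F M * z ∈ W.S.fix → (eL T F M * z) * (eL T F M * z) = 1 →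
    Good W reps (eL T F M * z)

variable [CharP F 2]

theorem coords {L : List ℕ} {a : ℕ} (h : coordOK T D rho L a = true) {z : GL T.I F}
    (hz : z ∈ U T F L) (hf : z ∈ W.S.fix) :
    ∃ c, Okc W a c ∧ ∃ z' ∈ U T F (rest rho L a), z' ∈ W.S.fix ∧ z = oe W a c * z' := by
  simp only [coordOK, Bool.and_eq_true, Bool.not_eq_true', List.all_eq_true] at h
  obtain ⟨⟨⟨⟨⟨⟨⟨⟨⟨hok, hma⟩, hmb⟩, hpos⟩, hN⟩, hL'⟩, hn⟩, hn'⟩, hnn⟩, hrho⟩ := h
  obtain ⟨ha, hh, hp⟩ := okOrb_iff hok
  have hb := W.rho_lt a ha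
  have hT := W.valid
  have hpos' := posL_iff hpos
  have nN : ∀ t : F, T.xU F a t ∈ Subgroup.normalizer (U T F (L.erase a) : Set (GL T.I F)) :=
    fun t => nrm_mem_nz hT W.comm W.odd hn (List.mem_singleton_self a) ha t
  obtain ⟨c, y, hy, hzy⟩ := split_list hT (N := L.erase a) ha
    (fun v hv => (em (v = a)).imp id fun hne => (List.mem_erase_of_ne hne).mpr hv) nN hz
  subst hzy
  have hzero : ∀ {w w' : GL T.I F}, w ∈ U T F (L.erase a) → w' ∈ U T F (L.erase a) → ∀ {e e' : F},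
      T.xU F a e * w = T.xU F a e' * w' → e = e' := by
    intro w w' hw hw' e e' he
    refine CharTwo.add_eq_zero.mp (coord_zero hT W.comm W.odd hnn
      (fun v hv => hpos' v (List.mem_of_mem_erase hv)) (hpos' a (mem_iff.mp hma)).1 ha (not_mem_of hN) ?_)
    have : T.xU F a (e + e') = w' * w⁻¹ := by
      rw [eq_mul_inv_iff_mul_eq, add_comm, ← xU_add hT ha, mul_assoc, he, ← mul_assoc, xU_sq hT ha,
        one_mul]
    rw [this]
    exact mul_mem hw' (inv_mem hw)
  have hLN : U T F (rest rho L a) ≤ U T F (L.erase a) :=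
    fun w hw => mono_mem (fun r _ hr => List.mem_of_mem_erase hr) hw
  have hrest : ∀ w ∈ U T F (rest rho L a), W.S.sg w ∈ U T F (rest rho L a) :=
    fun w hw => sg_mem_U W (fun v hv => mem_iff.mp (hrho v hv)) hw
  have hgrp : ∀ w ∈ U T F (rest rho L a), w ∈ T.datum.group F := fun w hw =>
    W.S.rootGen_le_group _ hw
  rcases oe_cases W a c with ⟨e0, eo, -⟩ | ⟨e0, eo, -⟩
  · have heq : ∀ w ∈ U T F (L.erase a), w ∈ U T F (rest rho L a) := fun w hw => by
      refine mono_mem (fun r _ hr => ?_) hw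
      refine (List.mem_erase_of_ne ?_).mpr hr
      rw [e0]
      exact fun e => not_mem_of hN (e ▸ hr)
    have hy' := heq y hy
    have e := hf.2
    rw [W.S.sg_mul (xU_mem_group hT ha c) (hgrp y hy'), W.sgx a ha, e0] at e
    have hc : W.σ c = c := hzero (hLN (hrest y hy')) hy e
    refine ⟨c, fun _ => hc, y, hy', ?_, by rw [eo]⟩
    rw [hc] at e
    exact ⟨hgrp y hy', mul_left_cancel e⟩
  · have nb : ∀ t : F, T.xU F (rho a) t ∈ Subgroup.normalizer (U T F (rest rho L a) : Set (GL T.I F)) :=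
      fun t => nrm_mem_nz hT W.comm W.odd hn' (mem_orb.mpr (Or.inr rfl)) hb t
    obtain ⟨d, z', hz', rfl⟩ := split_list hT (N := rest rho L a) hb
      (fun v hv => (em (v = rho a)).imp id fun hne => (List.mem_erase_of_ne hne).mpr hv) nb hy
    have g1 := xU_mem_group (F := F) hT ha c
    have g2 := xU_mem_group (F := F) hT hb d
    have g3 := hgrp z' hz'
    have hbN : rho a ∈ L.erase a := (List.mem_erase_of_ne e0).mpr (mem_iff.mp hmb)
    have e := hf.2
    rw [W.S.sg_mul g1 (mul_mem g2 g3), W.S.sg_mul g2 g3, W.sgx a ha, W.sgx (rho a) hb, hh, ← mul_assoc,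
      ← (commute_exact W ha hb hp (W.σ d) (W.σ c)).eq, mul_assoc] at e
    have hcd : W.σ d = c := hzero
      (mul_mem (xU_mem_rootGen (P := (· ∈ L.erase a)) hb hbN _) (hLN (hrest z' hz')))
      (mul_mem (xU_mem_rootGen (P := (· ∈ L.erase a)) hb hbN _) (hLN hz')) e
    have hd : W.σ c = d := by rw [← hcd, W.σσ]
    subst hd
    rw [hcd] at e
    exact ⟨c, fun e1 => absurd e1 e0, z', hz', ⟨g3, mul_left_cancel (mul_left_cancel e)⟩,
      by rw [eo, mul_assoc]⟩

/-- The rule obtained from a statement on one coordinate. -/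
theorem pt_coord {reps : List (List ℕ)} {M L : List ℕ} {a : ℕ} (hM : fixL T D rho M = true)
    (h : coordOK T D rho L a = true)
    (H : ∀ c, Okc W a c → ∀ z' ∈ U T F (rest rho L a), z' ∈ W.S.fix →
      (eL T F M * (oe W a c * z')) * (eL T F M * (oe W a c * z')) = 1 →
      Good W reps (eL T F M * (oe W a c * z'))) : Pt W reps M L := by
  intro z hz hf hsq
  have hzf : z ∈ W.S.fix := by
    have := mul_mem (inv_mem (fixL_mem W M hM).1) hf
    rwa [inv_mul_cancel_left] at this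
  obtain ⟨c, hc, z', hz', hz'f, rfl⟩ := coords W h hz hzf
  exact H c hc z' hz' hz'f hsq

/-- Orbit elements pass a product modulo `N`. -/
def passOK (T : Tbl) (D : ℕ → ℕ → List (ℕ × ℕ × ℕ)) (N R M K : List ℕ) : Bool :=
  nrm T D (R ++ (M ++ K)) N && R.all (fun g => moveOK T D N g M K) &&
    K.all (fun u => (R ++ (M ++ K)).all fun v => pairOK T D N u v)

/-- The coefficient collected at a root when the elements of a list pass. -/
def cfs (D : ℕ → ℕ → List (ℕ × ℕ × ℕ)) (N R M : List ℕ) (ψ : ℕ → F) (u : ℕ) : F :=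
  (R.map fun g => cf D N g M (ψ g) u).sum

include W in
theorem passOK_facts {N R M K : List ℕ} (hlt : ∀ v ∈ R ++ (M ++ K), v < T.n)
    (h : passOK T D N R M K = true) :
    (∀ v ∈ R ++ (M ++ K), ∀ t : F, T.xU F v t ∈ Subgroup.normalizer (U T F N : Set (GL T.I F))) ∧
      (∀ g ∈ R, moveOK T D N g M K = true) ∧
      ∀ u ∈ K, ∀ v ∈ R ++ (M ++ K), pairOK T D N u v = true := by
  simp only [passOK, Bool.and_eq_true, List.all_eq_true] at h
  exact ⟨fun v hv t => nrm_mem_nz W.valid W.comm W.odd h.1.1 hv (hlt v hv) t, h.1.2, h.2⟩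

include W in
theorem q_pass {N M K : List ℕ} (hnd : K.Nodup) (ψ : ℕ → F) : ∀ R : List ℕ,
    (∀ v ∈ R ++ (M ++ K), v < T.n) → passOK T D N R M K = true →
    q N (eL T F M) * Kp N R ψ = Kp N R ψ * q N (eL T F M) * Kp (T := T) N K (cfs D N R M ψ) := by
  intro R hlt h
  obtain ⟨nz, hmv, hK⟩ := passOK_facts W hlt h
  clear h
  induction R with
  | nil =>
    rw [Kp_congr (φ := cfs D N [] M ψ) (ψ := fun _ => (0 : F)) (fun u _ => by simp [cfs]),
      Kp_zero W fun u hu => hlt u (by simp [hu])]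
    simp [Kp]
  | cons g R ih =>
    have sub : ∀ {v : ℕ}, v ∈ R ++ (M ++ K) → v ∈ g :: R ++ (M ++ K) := fun h => List.mem_cons_of_mem _ h
    have inM : ∀ {v : ℕ}, v ∈ M → v ∈ g :: R ++ (M ++ K) := fun h => by simp [h]
    have inK : ∀ {v : ℕ}, v ∈ K → v ∈ g :: R ++ (M ++ K) := fun h => by simp [h]
    have ih' := ih (fun v hv => hlt v (sub hv)) (fun v hv => nz v (sub hv))
      (fun r hr => hmv r (List.mem_cons_of_mem _ hr)) (fun u hu v hv => hK u hu v (sub hv))
    have cR : Commute (Kp N K (cf D N g M (ψ g))) (Kp (T := T) N R ψ) := Kp_comm ψ fun v hv t =>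
      (Kp_comm _ fun u hu s => (q_pair W (hlt u (inK hu)) (hlt v (sub (List.mem_append_left _ hv)))
        (hK u hu v (sub (List.mem_append_left _ hv))) (nz u (inK hu))
        (nz v (sub (List.mem_append_left _ hv))) s t).symm).symm
    rw [show Kp N (g :: R) ψ = q N (T.xU F g (ψ g)) * Kp N R ψ by simp [Kp], ← mul_assoc,
      q_move W (hlt g (by simp)) (nz g (by simp)) (fun u hu => hlt u (inK hu)) hnd
        (fun u hu => nz u (inK hu)) (fun u hu v hv => hK u hu v (inK hv)) (ψ g) M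
        (fun m hm => hlt m (inM hm)) (fun m hm => nz m (inM hm)) (fun u hu m hm => hK u hu m (inM hm))
        (hmv g List.mem_cons_self),
      mul_assoc _ _ (Kp N R ψ), cR.eq, ← mul_assoc _ _ (Kp N K (cf D N g M (ψ g))), mul_assoc _ _ (Kp N R ψ),
      ih']
    simp only [mul_assoc]
    congr 3
    rw [Kp_add W (fun u hu => hlt u (inK hu)) (fun u hu => nz u (inK hu))
      (fun u hu v hv => hK u hu v (inK hv))]
    exact Kp_congr fun u _ => by simp [cfs, add_comm]

/-- The conditions to remove the coordinate `a` by the orbit `r`. -/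
def killOK (T : Tbl) (D : ℕ → ℕ → List (ℕ × ℕ × ℕ)) (rho : ℕ → ℕ) (M L : List ℕ) (a r : ℕ) : Bool :=
  okOrb T D rho r && passOK T D (rest rho L a) (orb rho r) M (orb rho a)

theorem kill_good {reps : List (List ℕ)} {M L : List ℕ} {a r : ℕ} (hM : fixL T D rho M = true)
    (hcd : coordOK T D rho L a = true) (h : killOK T D rho M L a r = true)
    (hpt : Pt W reps M (rest rho L a)) {c t : F} (hc : Okc W a c) (ht : Okc W r t)
    (heq : ∀ u ∈ orb rho a, cfs D (rest rho L a) (orb rho r) M (tv W r t) u = tv W a c u)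
    {z' : GL T.I F} (hz' : z' ∈ U T F (rest rho L a)) (hz'f : z' ∈ W.S.fix)
    (hsq : (eL T F M * (oe W a c * z')) * (eL T F M * (oe W a c * z')) = 1) :
    Good W reps (eL T F M * (oe W a c * z')) := by
  simp only [killOK, Bool.and_eq_true] at h
  obtain ⟨hr, hp⟩ := h
  have hok : okOrb T D rho a = true := by
    simp only [coordOK, Bool.and_eq_true] at hcd; exact hcd.1.1.1.1.1.1.1.1.1
  set N := rest rho L a with hN
  clear_value N
  obtain ⟨heM, hMlt⟩ := fixL_mem W M hM
  have hlt : ∀ v ∈ orb rho r ++ (M ++ orb rho a), v < T.n := fun v hv => by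
    rcases List.mem_append.mp hv with h | h
    · exact orb_lt W hr v h
    · exact (List.mem_append.mp h).elim (hMlt v) (orb_lt W hok v)
  obtain ⟨nz, -, hK⟩ := passOK_facts W hlt hp
  have hpass := q_pass W (orb_nodup a) (tv W r t) (orb rho r) hlt hp
  rw [Kp_congr heq, ← q_oe W t fun u hu => nz u (by simp [hu]),
    ← q_oe W c fun u hu => nz u (by simp [hu])] at hpass
  have ng : oe W r t ∈ Subgroup.normalizer (U T F N : Set (GL T.I F)) := by
    rcases oe_cases W r t with ⟨-, e, eo⟩ | ⟨-, e, eo⟩ <;> rw [e]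
    · exact nz r (by simp [eo]) _
    · exact mul_mem (nz r (by simp [eo]) _) (nz (rho r) (by simp [eo]) _)
  have na : oe W a c ∈ Subgroup.normalizer (U T F N : Set (GL T.I F)) := by
    rcases oe_cases W a c with ⟨-, e, eo⟩ | ⟨-, e, eo⟩ <;> rw [e]
    · exact nz a (by simp [eo]) _
    · exact mul_mem (nz a (by simp [eo]) _) (nz (rho a) (by simp [eo]) _)
  have ne : eL T F M ∈ Subgroup.normalizer (U T F N : Set (GL T.I F)) :=
    eL_mem_nz fun v hv => nz v (by simp [hv]) 1
  have nz' : z' ∈ Subgroup.normalizer (U T F N : Set (GL T.I F)) := Subgroup.le_normalizer hz'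
  have hcom : Commute (q N (oe W r t)) (q N (oe W a c)) := by
    rw [q_oe W t fun u hu => nz u (by simp [hu]), q_oe W c fun u hu => nz u (by simp [hu])]
    exact Kp_comm _ fun v hv s => (Kp_comm _ fun u hu s' => q_pair W (hlt v (by simp [hv]))
      (hlt u (by simp [hu])) (by
        have := hK v hv u (by simp [hu]); exact this) (nz v (by simp [hv])) (nz u (by simp [hu])) s s').symm
  obtain ⟨g, hg⟩ : ∃ g, g = oe W r t := ⟨_, rfl⟩
  rw [← hg] at hpass hcom ng
  obtain ⟨x, hx⟩ : ∃ x, x = eL T F M * (oe W a c * z') := ⟨_, rfl⟩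
  rw [← hx] at hsq ⊢
  have nx : x ∈ Subgroup.normalizer (U T F N : Set (GL T.I F)) := hx ▸ mul_mem ne (mul_mem na nz')
  have nx' : g⁻¹ * x * g ∈ Subgroup.normalizer (U T F N : Set (GL T.I F)) :=
    mul_mem (mul_mem (inv_mem ng) nx) ng
  have haa : q N (oe W a c) * q N (oe W a c) = 1 := by rw [← q_mul na na, oe_sq W hok, q_one]
  have hq : q N (g⁻¹ * x * g) = q N (eL T F M) := by
    rw [q_mul (mul_mem (inv_mem ng) nx) ng, q_mul (inv_mem ng) nx, q_inv ng, hx,
      q_mul ne (mul_mem na nz'), q_mul na nz', (q_eq_one_iff nz').mpr hz', mul_one, mul_assoc, mul_assoc,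
      ← hcom.eq, ← mul_assoc (q N (eL T F M)), hpass, mul_assoc, haa, mul_one, inv_mul_cancel_left]
  have hmem : (eL T F M)⁻¹ * (g⁻¹ * x * g) ∈ U T F N := by
    rw [← q_eq_one_iff (mul_mem (inv_mem ne) nx'), q_mul (inv_mem ne) nx', q_inv ne, hq, inv_mul_cancel]
  have hgf : g ∈ W.S.fix := hg ▸ oe_mem_fix W hr ht
  have hcj : g⁻¹ * x = g⁻¹ * x * g * g⁻¹ := by rw [mul_inv_cancel_right]
  have hxf : x ∈ W.S.fix := hx ▸ mul_mem heM (mul_mem (oe_mem_fix W hok hc) hz'f)
  have h' := hpt _ hmem (by rw [mul_inv_cancel_left]; exact fix_conj W (inv_mem hgf) hcj hxf)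
    (by rw [mul_inv_cancel_left]; exact sq_conj hcj hsq)
  rw [mul_inv_cancel_left] at h'
  exact good_conj W (inv_mem hgf) hcj h'

/-- The conditions to read the equation of the coordinate `a` at the root `b`. -/
def sqOK (T : Tbl) (D : ℕ → ℕ → List (ℕ × ℕ × ℕ)) (rho : ℕ → ℕ) (M L : List ℕ) (a b : ℕ)
    (N : List ℕ) : Bool :=
  let A := orb rho a
  let B := orb rho b
  let L' := rest rho L a
  let G := A ++ (M ++ (L' ++ B))
  let N' := B.erase b ++ N
  okOrb T D rho b && posL T L && nrm T D G N && passOK T D N A M B &&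
    (M.all fun m => M.all fun v => pairOK T D N m v) &&
    (L'.all fun s => (A ++ (M ++ L')).all fun g => pairOK T D N s g) &&
    nrm T D N' N' && posL T N' && !(mem N' b) && Nat.ble T.half b

theorem sq_zero {M L N : List ℕ} {a b : ℕ} (hM : fixL T D rho M = true)
    (hcd : coordOK T D rho L a = true) (h : sqOK T D rho M L a b N = true) {c : F}
    {z' : GL T.I F} (hz' : z' ∈ U T F (rest rho L a))
    (hsq : (eL T F M * (oe W a c * z')) * (eL T F M * (oe W a c * z')) = 1) :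
    cfs D N (orb rho a) M (tv W a c) b = 0 := by
  have hok : okOrb T D rho a = true := by
    simp only [coordOK, Bool.and_eq_true] at hcd; exact hcd.1.1.1.1.1.1.1.1.1
  simp only [sqOK, Bool.and_eq_true, List.all_eq_true, Bool.not_eq_true'] at h
  obtain ⟨⟨⟨⟨⟨⟨⟨⟨⟨hb, hLpos⟩, hn⟩, hp⟩, hMM⟩, hcen⟩, hnn⟩, hNpos⟩, hbN⟩, hbp⟩ := h
  obtain ⟨-, hMlt⟩ := fixL_mem W M hM
  have hL' : ∀ v ∈ rest rho L a, v < T.n := fun v hv =>
    (posL_iff hLpos v (List.mem_of_mem_erase (List.mem_of_mem_erase hv))).2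
  have hG : ∀ v ∈ orb rho a ++ (M ++ (rest rho L a ++ orb rho b)), v < T.n := fun v hv => by
    rcases List.mem_append.mp hv with h | h
    · exact orb_lt W hok v h
    rcases List.mem_append.mp h with h | h
    · exact hMlt v h
    exact (List.mem_append.mp h).elim (hL' v) (orb_lt W hb v)
  have nz : ∀ v ∈ orb rho a ++ (M ++ (rest rho L a ++ orb rho b)), ∀ t : F,
      T.xU F v t ∈ Subgroup.normalizer (U T F N : Set (GL T.I F)) :=
    fun v hv t => nrm_mem_nz W.valid W.comm W.odd hn hv (hG v hv) t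
  have hlt : ∀ v ∈ orb rho a ++ (M ++ orb rho b), v < T.n := fun v hv => hG v (by
    simp only [List.mem_append] at hv ⊢; tauto)
  have hpass := q_pass W (orb_nodup b) (tv W a c) (orb rho a) hlt hp
  obtain ⟨-, -, hB⟩ := passOK_facts W hlt hp
  have nA : ∀ v ∈ orb rho a, ∀ t : F, T.xU F v t ∈ Subgroup.normalizer (U T F N : Set (GL T.I F)) :=
    fun v hv => nz v (by simp [hv])
  have nB : ∀ v ∈ orb rho b, ∀ t : F, T.xU F v t ∈ Subgroup.normalizer (U T F N : Set (GL T.I F)) :=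
    fun v hv => nz v (by simp [hv])
  have nMs : ∀ v ∈ M, ∀ t : F, T.xU F v t ∈ Subgroup.normalizer (U T F N : Set (GL T.I F)) :=
    fun v hv => nz v (by simp [hv])
  have na : oe W a c ∈ Subgroup.normalizer (U T F N : Set (GL T.I F)) := by
    rcases oe_cases W a c with ⟨-, e, eo⟩ | ⟨-, e, eo⟩ <;> rw [e]
    · exact nA a (by simp [eo]) _
    · exact mul_mem (nA a (by simp [eo]) _) (nA (rho a) (by simp [eo]) _)
  have ne : eL T F M ∈ Subgroup.normalizer (U T F N : Set (GL T.I F)) :=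
    eL_mem_nz fun v hv => nMs v hv 1
  let G := orb rho a ++ (M ++ rest rho L a)
  have upG : ∀ {v : ℕ}, v ∈ G → v ∈ orb rho a ++ (M ++ (rest rho L a ++ orb rho b)) := fun h => by
    simp only [G, List.mem_append] at h ⊢; tauto
  let Gen (w : Qt T F N) : Prop := ∀ g ∈ G, ∀ s : F, Commute w (q N (T.xU F g s))
  have Pg : ∀ s ∈ rest rho L a, ∀ t : F, Gen (q N (T.xU F s t)) := fun s hs t g hg u =>
    q_pair W (hL' s hs) (hG g (upG hg)) (hcen s hs g hg) (nz s (by simp [hs])) (nz g (upG hg)) t u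
  have hZ : z' ∈ Subgroup.normalizer (U T F N : Set (GL T.I F)) ∧ Gen (q N z') ∧
      q N z' * q N z' = 1 ∧ ∀ w, Gen w → Commute (q N z') w := by
    clear hsq
    induction hz' using Subgroup.closure_induction with
    | mem y hy =>
      obtain ⟨s, hs', hP, t, rfl⟩ := hy
      exact ⟨nz s (by simp [hP]) t, Pg s hP t, q_sq W.valid hs' t (nz s (by simp [hP]) t),
        fun w hw => (hw s (by simp [G, hP]) t).symm⟩
    | one =>
      rw [q_one]
      exact ⟨one_mem _, fun _ _ _ => Commute.one_left _, one_mul 1, fun w _ => Commute.one_left w⟩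
    | mul y y' _ _ hy hy' =>
      obtain ⟨y0, y1, y2, y3⟩ := hy
      obtain ⟨v0, v1, v2, v3⟩ := hy'
      rw [q_mul y0 v0]
      exact ⟨mul_mem y0 v0, fun g hg s => (y1 g hg s).mul_left (v1 g hg s),
        by rw [(y3 _ v1).symm.mul_mul_mul_comm, y2, v2, one_mul],
        fun w hw => (y3 w hw).mul_left (v3 w hw)⟩
    | inv y _ hy =>
      obtain ⟨y0, y1, y2, y3⟩ := hy
      rw [q_inv y0, inv_eq_of_mul_eq_one_right y2]
      exact ⟨inv_mem y0, y1, y2, y3⟩
  obtain ⟨nz', Z1, Z2, -⟩ := hZ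
  have cZE : Commute (q N z') (q N (eL T F M)) := by
    rw [q_eL fun v hv => nMs v hv 1]
    exact commute_prod fun y hy => by
      obtain ⟨m, hm, rfl⟩ := List.mem_map.mp hy
      exact Z1 m (by simp [G, hm]) 1
  have cZA : Commute (q N z') (q N (oe W a c)) := by
    rw [q_oe W c nA]
    exact Kp_comm _ fun v hv t => Z1 v (by simp [G, hv]) t
  have hEE : q N (eL T F M) * q N (eL T F M) = 1 := by
    rw [q_eL fun v hv => nMs v hv 1,
      show (M.map fun m => q N (T.xU F m 1)).prod = Kp N M (fun _ => (1 : F)) from rfl,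
      Kp_add W hMlt nMs hMM, Kp_congr (ψ := fun _ => (0 : F)) (fun _ _ => CharTwo.add_self_eq_zero 1),
      Kp_zero W hMlt]
  have haa : q N (oe W a c) * q N (oe W a c) = 1 := by rw [← q_mul na na, oe_sq W hok, q_one]
  rw [← q_oe W c nA] at hpass
  have e0 := congrArg (q N) hsq
  have nx : eL T F M * (oe W a c * z') ∈ Subgroup.normalizer (U T F N : Set (GL T.I F)) :=
    mul_mem ne (mul_mem na nz')
  rw [q_one, q_mul nx nx, q_mul ne (mul_mem na nz'), q_mul na nz', ← mul_assoc (q N (eL T F M)),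
    ((cZE.mul_right cZA)).mul_mul_mul_comm, Z2, mul_one] at e0
  have e1 : Kp N (orb rho b) (cfs D N (orb rho a) M (tv W a c)) = (1 : Qt T F N) := by
    rw [← e0]
    generalize q N (eL T F M) = E at hpass hEE ⊢
    generalize q N (oe W a c) = A at hpass haa ⊢
    generalize Kp N (orb rho b) (cfs D N (orb rho a) M (tv W a c)) = V at hpass ⊢
    symm
    calc E * A * (E * A) = E * A * (A * E * V) := by rw [hpass]
      _ = E * (A * A) * (E * V) := by simp only [mul_assoc]
      _ = V := by rw [haa, mul_one, ← mul_assoc, hEE, one_mul]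
  generalize cfs D N (orb rho a) M (tv W a c) = φ at e1 ⊢
  have hsub : ∀ v ∈ (orb rho b).erase b ++ N, T.half ≤ v ∧ v < T.n := posL_iff hNpos
  refine coord_zero W.valid W.comm W.odd hnn hsub (Nat.le_of_ble_eq_true hbp)
    (orb_lt W hb b (mem_orb.mpr (Or.inl rfl))) (not_mem_of hbN) ?_
  have hN : ∀ {y : GL T.I F}, y ∈ U T F N → y ∈ U T F ((orb rho b).erase b ++ N) := fun hy =>
    mono_mem (fun r _ hr => List.mem_append_right _ hr) hy
  rcases oe_cases W b c with ⟨-, -, eo⟩ | ⟨hne, -, eo⟩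
  · rw [eo] at e1 nB
    simp only [Kp, List.map_cons, List.map_nil, List.prod_cons, List.prod_nil, mul_one] at e1
    exact hN ((q_eq_one_iff (nB b (by simp) _)).mp e1)
  · rw [eo] at e1 nB
    simp only [Kp, List.map_cons, List.map_nil, List.prod_cons, List.prod_nil, mul_one] at e1
    have hmem := (q_eq_one_iff (mul_mem (nB b (by simp) _) (nB (rho b) (by simp) _))).mp
      ((q_mul (nB b (by simp) _) (nB (rho b) (by simp) _)).trans e1)
    have hb' : T.xU F (rho b) (φ (rho b)) ∈ U T F ((orb rho b).erase b ++ N) :=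
      xU_mem_rootGen (P := (· ∈ (orb rho b).erase b ++ N)) (W.rho_lt b (okOrb_iff hb).1)
        (List.mem_append_left _ (by rw [eo]; simp)) _
    have := mul_mem (hN hmem) (inv_mem hb')
    rwa [mul_inv_cancel_right] at this

/-- The pairing of a vector with the coroot coordinates of a root. -/
def pr (T : Tbl) (v : List ℤ) (s : ℕ) : ℤ := ((List.range T.rank).map fun i => v.getD i 0 * T.ca i s).sum

/-- The conditions to scale the coordinate `a` to one. -/
def splitOK (T : Tbl) (rho perm : ℕ → ℕ) (M : List ℕ) (a : ℕ) (v w : List ℤ) : Bool :=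
  ((List.range T.rank).all fun i => decide (v.getD (perm i) 0 = v.getD i 0) &&
      decide (w.getD (perm i) 0 = -w.getD i 0)) &&
    (M.all fun m => decide (pr T v m = 0) && decide (pr T w m = 0)) &&
    [1, 2, 4, 8].any (fun t => Nat.beq (pr T v a).natAbs t) &&
    (Nat.beq (rho a) a || [1, 2, 4, 8].any (fun t => Nat.beq (pr T w a).natAbs t))

omit [CharP F 2] in
theorem two_pow_of_mem {k : ℕ} (h : [1, 2, 4, 8].any (fun t => Nat.beq k t) = true) : ∃ e, k = 2 ^ e := by
  simp only [List.any_cons, List.any_nil, Bool.or_false, Bool.or_eq_true] at h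
  rcases h with h | h | h | h
  exacts [⟨0, Nat.eq_of_beq_eq_true h⟩, ⟨1, Nat.eq_of_beq_eq_true h⟩, ⟨2, Nat.eq_of_beq_eq_true h⟩,
    ⟨3, Nat.eq_of_beq_eq_true h⟩]

theorem two_pow_inj {e : ℕ} {x y : F} (h : x ^ 2 ^ e = y ^ 2 ^ e) : x = y := by
  have : (x + y) ^ 2 ^ e = 0 := by rw [add_pow_char_pow, h, CharTwo.add_self_eq_zero]
  exact CharTwo.add_eq_zero.mp ((pow_eq_zero_iff (by positivity)).mp this)

/-- A root of a unit with the same behaviour under an endomorphism. -/
theorem unit_root [Finite F] (τ : Fˣ →* Fˣ) {k : ℤ}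
    (hk : ∃ e, k.natAbs = 2 ^ e) (y : Fˣ) :
    ∃ u : Fˣ, u ^ k = y ∧ (τ y = y → τ u = u) ∧ (τ y = y⁻¹ → τ u = u⁻¹) := by
  obtain ⟨e, he⟩ := hk
  have key : ∀ z : Fˣ, ∃ u : Fˣ, u ^ (2 ^ e) = z := fun z => by
    obtain ⟨w, hw⟩ := pow_two_pow_surjective e (z : F)
    have hw0 : w ≠ 0 := fun h => by rw [h, zero_pow (by positivity)] at hw; exact z.ne_zero hw.symm
    exact ⟨Units.mk0 w hw0, Units.ext (by simpa using hw)⟩
  have uniq : ∀ u v : Fˣ, u ^ k = v ^ k → u = v := fun u v h => by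
    have h' : u ^ (2 ^ e) = v ^ (2 ^ e) := by
      rcases Int.natAbs_eq_iff.mp he with rfl | rfl
      · rwa [zpow_natCast, zpow_natCast] at h
      · rwa [_root_.zpow_neg, _root_.zpow_neg, inv_inj, zpow_natCast, zpow_natCast] at h
    exact Units.ext (two_pow_inj (by simpa using congrArg Units.val h'))
  obtain ⟨u, hu⟩ : ∃ u : Fˣ, u ^ k = y := by
    rcases Int.natAbs_eq_iff.mp he with rfl | rfl
    · obtain ⟨u, hu⟩ := key y
      exact ⟨u, by rwa [zpow_natCast]⟩
    · obtain ⟨u, hu⟩ := key y⁻¹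
      exact ⟨u, by rw [_root_.zpow_neg, zpow_natCast, hu, inv_inv]⟩
  exact ⟨u, hu, fun h => uniq _ _ (by rw [← map_zpow, hu, h]),
    fun h => uniq _ _ (by rw [← map_zpow, inv_zpow, hu, h])⟩

theorem pt_split [Finite F] {reps : List (List ℕ)} {M L : List ℕ} {a : ℕ} {v w : List ℤ}
    (hM : fixL T D rho M = true) (hcd : coordOK T D rho L a = true)
    (h : splitOK T rho perm M a v w = true) (h0 : Pt W reps M (rest rho L a))
    (h1 : Pt W reps (M ++ orb rho a) (rest rho L a)) : Pt W reps M L := by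
  refine pt_coord W hM hcd fun c hc z' hz' hz'f hsq => ?_
  have hok : okOrb T D rho a = true := by
    simp only [coordOK, Bool.and_eq_true] at hcd; exact hcd.1.1.1.1.1.1.1.1.1
  obtain ⟨heM, hMlt⟩ := fixL_mem W M hM
  by_cases hc0 : c = 0
  · subst hc0
    rw [oe_zero W hok, one_mul] at hsq ⊢
    exact h0 z' hz' (mul_mem heM hz'f) hsq
  simp only [splitOK, Bool.and_eq_true, List.all_eq_true, decide_eq_true_eq, List.mem_range,
    Bool.or_eq_true] at h
  obtain ⟨⟨⟨hvw, hvM⟩, hka⟩, hwa⟩ := h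
  obtain ⟨ha, hh, -⟩ := okOrb_iff hok
  let τ : Fˣ →* Fˣ := Units.map W.σ.toRingHom.toMonoidHom
  let cu : Fˣ := Units.mk0 c hc0
  -- the fixed part and the part inverted by the automorphism
  obtain ⟨s, hs⟩ : ∃ s : Fˣ, s ^ (2 : ℤ) = cu * τ cu ∧ τ s = s := by
    obtain ⟨s, h1, h2, -⟩ := unit_root τ (k := 2) ⟨1, rfl⟩ (cu * τ cu)
    refine ⟨s, h1, h2 ?_⟩
    rw [map_mul, mul_comm]
    congr 1
    exact Units.ext (W.σσ c)
  obtain ⟨hs, hsf⟩ := hs
  have hom : τ (cu / s) = (cu / s)⁻¹ := by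
    rw [map_div, hsf, inv_div, div_eq_div_iff_mul_eq_mul, mul_comm, ← hs, zpow_two]
  obtain ⟨u, hu, huf, -⟩ := unit_root τ (two_pow_of_mem hka) s⁻¹
  have huf' : τ u = u := huf (by rw [map_inv, hsf])
  obtain ⟨o, ho, hof⟩ : ∃ o : Fˣ, o ^ pr T w a = s / cu ∧ τ o = o⁻¹ := by
    rcases hwa with e | e
    · refine ⟨1, ?_, by rw [map_one, inv_one]⟩
      have e' := Nat.eq_of_beq_eq_true e
      have hcc : τ cu = cu := Units.ext (hc e')
      rw [hcc] at hs
      have : s = cu := by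
        refine Units.ext (two_pow_inj (e := 1) ?_)
        have := congrArg Units.val hs
        simpa [zpow_two, pow_two] using this
      rw [this, one_zpow, div_self']
    · obtain ⟨o, h1, -, h3⟩ := unit_root τ (two_pow_of_mem e) (s / cu)
      exact ⟨o, h1, h3 (by rw [← inv_div cu s, map_inv, hom])⟩
  let f : Fin T.rank → Fˣ := fun i => u ^ v.getD i.val 0 * o ^ w.getD i.val 0
  obtain ⟨g, hg⟩ : ∃ g, g = torusHom T F f := ⟨_, rfl⟩
  have hgf : g ∈ W.S.fix := hg ▸ W.tor f fun i j hij => by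
    show ((τ (f i) : Fˣ) : F) = _
    obtain ⟨e1, e2⟩ := hvw i.val i.2
    simp only [f]
    rw [map_mul, map_zpow, map_zpow, huf', hof, inv_zpow', ← hij, e1, e2]
  obtain ⟨χ, hχ⟩ : ∃ χ : ℕ → Fˣ, χ = fun r => ∏ i, f i ^ T.ca i r := ⟨_, rfl⟩
  have hgχ : g = T.dU χ := by rw [hg, hχ]; rfl
  have hchar : T.IsChar χ := hχ ▸ isChar_prod W.valid _
  have hval : ∀ r, χ r = u ^ pr T v r * o ^ pr T w r := fun r => by
    rw [hχ, pr, pr, list_sum_range (fun i => v.getD i 0 * T.ca i r),
      list_sum_range (fun i => w.getD i 0 * T.ca i r), zpow_sum_eq, zpow_sum_eq, ← Finset.prod_mul_distrib]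
    exact Finset.prod_congr rfl fun i _ => by
      simp only [f]
      rw [mul_zpow, _root_.zpow_mul, _root_.zpow_mul]
  have hcm : Commute g (eL T F M) := commute_prod fun y hy => by
    obtain ⟨m, hm, rfl⟩ := List.mem_map.mp hy
    obtain ⟨e1, e2⟩ := hvM m hm
    rw [Commute, SemiconjBy, hgχ, dU_conj_X W.valid hchar (hMlt m hm), hval, e1, e2, zpow_zero, zpow_zero, one_mul,
      Units.val_one, one_mul]
  have hχa : χ a = cu⁻¹ := by rw [hval, hu, ho, inv_mul_eq_div, div_div_cancel_left]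
  have hga : g * T.xU F a c = T.xU F a 1 * g := by
    rw [hgχ, dU_conj_X W.valid hchar ha, hχa]
    simp [cu, hc0]
  have hgo : g * oe W a c = oe W a 1 * g := by
    rcases oe_cases W a c with ⟨e0, e, -⟩ | ⟨e0, e, -⟩
    · rcases oe_cases W a (1 : F) with ⟨-, e', -⟩ | ⟨e1, -, -⟩
      · rw [e, e', hga]
      · exact absurd e0 e1
    · rcases oe_cases W a (1 : F) with ⟨e1, -, -⟩ | ⟨-, e', -⟩
      · exact absurd e1 e0
      have h2 := congrArg W.S.sg hga
      rw [W.S.sg_mul hgf.1 (xU_mem_group W.valid ha c), W.S.sg_mul (xU_mem_group W.valid ha 1) hgf.1,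
        W.sgx a ha, W.sgx a ha, hgf.2, map_one] at h2
      rw [e, e', map_one, ← mul_assoc, hga, mul_assoc, h2, mul_assoc]
  have he : eL T F (M ++ orb rho a) = eL T F M * oe W a 1 := by
    rw [eL_append]
    congr 1
    rcases oe_cases W a (1 : F) with ⟨-, e, eo⟩ | ⟨-, e, eo⟩ <;> simp [e, eo, eL]
  have hz'' : g * z' * g⁻¹ ∈ U T F (rest rho L a) :=
    (Subgroup.mem_normalizer_iff.mp (hgχ ▸ dU_mem_normalizer W.valid hchar (· ∈ rest rho L a)) z').mp hz'
  have hx : g * (eL T F M * (oe W a c * z')) = eL T F (M ++ orb rho a) * (g * z' * g⁻¹) * g := by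
    rw [← mul_assoc, hcm.eq, mul_assoc, ← mul_assoc g, hgo, he]
    group
  exact good_conj W hgf hx (h1 _ hz''
    (fix_conj W hgf hx (mul_mem heM (mul_mem (oe_mem_fix W hok hc) hz'f))) (sq_conj hx hsq))

end CfsgLib.InvClasses.Twisted
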